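import Groth.Agent.L08.WeilInsep.Props
import Groth.Agent.L15.KerFlat.Basic
import Groth.Agent.L24.Alg.SourceFppf
import Groth.Agent.L08.NormalQuot.Affine
import Groth.Agent.L08.SmallNorm.GaffSep
import Groth.Agent.L23.AffineMor
import Groth.Prelude.Def_RedSub

/-!
# The cokernel of the comparison map into a purely inseparable Weil restriction
-/

set_option autoImplicit false
set_option backward.isDefEq.respectTransparency.types false
set_option linter.style.haveILetI false
set_option linter.unusedSectionVars false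
universe u

open CategoryTheory CategoryTheory.Limits MonoidalCategory CartesianMonoidalCategory MonObj AlgebraicGeometry
open Groth.L13.WeilRes (specOver specHom)

noncomputable section

namespace Groth.L08.WeilInsep

/-- Multiples of a kernel against a lift give a pullback square. -/
theorem isPullback_lift_kernel {C : Type*} [Category C] [CartesianMonoidalCategory C] {A Rp Q K : C}
    [GrpObj A] [GrpObj Rp] [GrpObj Q] {qr : Rp ⟶ Q} [IsMonHom qr] {q : A ⟶ Q} {i : A ⟶ Rp} (hi : i ≫ qr = q)
    {iK : K ⟶ Rp} (hK : IsPullback iK (toUnit K) qr η[Q]) :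
    IsPullback ((snd A K ≫ iK) * (fst A K ≫ i)) (fst A K) qr q := by
  haveI : Mono iK := ⟨fun a b e => hK.hom_ext e (toUnit_unique _ _)⟩
  have hw : ((snd A K ≫ iK) * (fst A K ≫ i)) ≫ qr = fst A K ≫ q := by
    rw [MonObj.mul_comp, Category.assoc, Category.assoc, hK.w, hi,
      ← Category.assoc (snd A K), toUnit_unique (snd A K ≫ toUnit K) (toUnit _), ← Hom.one_def, _root_.one_mul]
  have hs : ∀ s : PullbackCone qr q, ∃ y : s.pt ⟶ K, y ≫ iK = s.fst * (s.snd ≫ i)⁻¹ := by
    intro s
    obtain ⟨y, hy, -⟩ := hK.exists_lift (s.fst * (s.snd ≫ i)⁻¹) (toUnit _) (by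
      rw [MonObj.mul_comp, GrpObj.inv_comp, Category.assoc, hi, ← s.condition, mul_inv_cancel, Hom.one_def])
    exact ⟨y, hy⟩
  refine ⟨⟨hw⟩, ⟨PullbackCone.IsLimit.mk _ (fun s => lift s.snd (hs s).choose)
    (fun s => ?_) (fun s => lift_fst _ _) (fun s m hm₁ hm₂ => ?_)⟩⟩
  · rw [MonObj.comp_mul, ← Category.assoc, lift_snd, ← Category.assoc, lift_fst, (hs s).choose_spec,
      inv_mul_cancel_right]
  · apply CartesianMonoidalCategory.hom_ext
    · rw [lift_fst, hm₂]
    · rw [lift_snd]
      refine (cancel_mono iK).1 ?_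
      rw [(hs s).choose_spec, ← hm₁, MonObj.comp_mul, ← Category.assoc, ← Category.assoc, hm₂, mul_inv_cancel_right]

variable {k k' : Type u} [Field k] [Field k'] [Algebra k k'] [Module.Finite k k'] [IsPurelyInseparable k k']
  {G : Over (Spec (CommRingCat.of k))} [GrpObj G] [LocallyOfFiniteType G.hom]
  {Gbar : Over (Spec (CommRingCat.of k'))} [GrpObj Gbar] [LocallyOfFiniteType Gbar.hom]
  {q : Red.bc (fe k k') G ⟶ Gbar} [IsMonHom q] [Surjective q.left] [Flat q.left]
  {R : Over (Spec (CommRingCat.of k))} [GrpObj R] {qR : Red.bc (fe k k') R ⟶ Gbar} [IsMonHom qR]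
  (hR : WeilRes.IsWeilRes (fe k k') Gbar R qR)

/-- The kernel together with the comparison map covers the base change of the Weil restriction. -/
theorem exists_cover :
    ∃ (K : Over (Spec (CommRingCat.of k'))) (_ : GrpObj K) (iK : K ⟶ Red.bc (fe k k') R), IsMonHom iK ∧
      AlgGrp.IsKernel iK qR ∧ IsAffine K.left ∧ LocallyOfFiniteType K.hom ∧
      (let m := (snd (Red.bc (fe k k') G) K ≫ iK) *
          (fst (Red.bc (fe k k') G) K ≫ (Over.pullback (fe k k')).map (hR.lift G q));
        Surjective m.left ∧ Flat m.left ∧ LocallyOfFinitePresentation m.left) ∧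
      LocallyOfFiniteType R.hom := by
  obtain ⟨K, gK, iK, _, _, -, hK⟩ := Groth.L08.AbelianGrp.exists_kernel qR
  obtain ⟨hKa, hKl⟩ := isAffine_kernel hR iK hK
  haveI : LocallyOfFiniteType K.hom := hKl inferInstance
  let A := Red.bc (fe k k') G
  haveI : LocallyOfFiniteType A.hom := inferInstanceAs (LocallyOfFiniteType (pullback.snd G.hom _))
  haveI : LocallyOfFiniteType (q.left ≫ Gbar.hom) := by rw [Over.w q]; infer_instance
  haveI := locallyOfFiniteType_of_comp q.left Gbar.hom
  haveI : IsLocallyNoetherian Gbar.left := LocallyOfFiniteType.isLocallyNoetherian Gbar.hom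
  haveI : LocallyOfFinitePresentation q.left := inferInstance
  have hi : (Over.pullback (fe k k')).map (hR.lift G q) ≫ qR = q := hR.restr_lift G q
  have sq := (isPullback_lift_kernel hi hK).map (Over.forget _)
  let m := (snd A K ≫ iK) * (fst A K ≫ (Over.pullback (fe k k')).map (hR.lift G q))
  haveI : Surjective m.left := MorphismProperty.of_isPullback (P := @Surjective) sq.flip ‹_›
  haveI : Flat m.left := MorphismProperty.of_isPullback (P := @Flat) sq.flip ‹_›
  haveI : LocallyOfFinitePresentation m.left :=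
    MorphismProperty.of_isPullback (P := @LocallyOfFinitePresentation) sq.flip ‹_›
  haveI : LocallyOfFiniteType (A ⊗ K).hom := by
    rw [← Over.w (snd A K)]
    haveI : LocallyOfFiniteType (snd A K).left := inferInstanceAs (LocallyOfFiniteType (pullback.snd A.hom K.hom))
    infer_instance
  haveI hR' : LocallyOfFiniteType (Red.bc (fe k k') R).hom :=
    Groth.L24.Alg.locallyOfFiniteType_of_fppf_comp (χ := m.left) (g := (Red.bc (fe k k') R).hom)
      (by rw [Over.w m]; infer_instance)
  obtain ⟨_, _, _, _⟩ := fe_props k k'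
  haveI : Surjective (fe k k') := Groth.L05.CurveNorm.surjective_ext k k'
  have hRl : LocallyOfFiniteType R.hom :=
    MorphismProperty.of_pullback_snd_of_descendsAlong (P := @LocallyOfFiniteType)
      (Q := @Surjective ⊓ @Flat ⊓ @QuasiCompact) (f := R.hom) (g := fe k k') ⟨⟨‹_›, ‹_›⟩, inferInstance⟩ hR'
  exact ⟨K, gK, iK, inferInstance, hK, hKa, inferInstance, ⟨‹_›, ‹_›, ‹_›⟩, hRl⟩

section Quotient

variable {H : Over (Spec (CommRingCat.of k))} [GrpObj H] {j : H ⟶ R} [IsMonHom j]
  (p : G ⟶ H) (hfac : p ≫ j = hR.lift G q)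
  {Q : Over (Spec (CommRingCat.of k))} [GrpObj Q] {π : R ⟶ Q} [IsMonHom π] (hQ : RedSub.IsQuotient j π)

include hfac hQ in
/-- The quotient is covered by the kernel. -/
theorem exists_surjective_kernel :
    ∃ (K : Over (Spec (CommRingCat.of k'))) (_ : GrpObj K) (iK : K ⟶ Red.bc (fe k k') R), IsMonHom iK ∧
      AlgGrp.IsKernel iK qR ∧ IsAffine K.left ∧ LocallyOfFiniteType K.hom ∧
      Surjective (iK ≫ (Over.pullback (fe k k')).map π).left ∧ LocallyOfFiniteType Q.hom := by
  obtain ⟨K, gK, iK, hiK, hK, hKa, hKl, ⟨hm1, hm2, hm3⟩, hRl⟩ := exists_cover (q := q) hR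
  obtain ⟨hπ1, hπ2, hπ3, sq⟩ := hQ
  let F := Over.pullback (fe k k')
  let A := Red.bc (fe k k') G
  let m := (snd A K ≫ iK) * (fst A K ≫ F.map (hR.lift G q))
  have hj : j ≫ π = 1 := by
    have e := congrArg (fun z => lift (1 : H ⟶ R) (𝟙 H) ≫ z) sq.w
    simp only [← Category.assoc, lift_fst, MonObj.one_comp, lift_whiskerLeft, Category.id_comp] at e
    rw [← Hom.mul_def, _root_.one_mul] at e
    exact e.symm
  have hmw : m ≫ F.map π = snd A K ≫ (iK ≫ F.map π) := by
    rw [MonObj.mul_comp, Category.assoc, Category.assoc, ← hfac, ← Functor.map_comp F (p ≫ j) π, Category.assoc,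
      hj, MonObj.comp_one, Functor.map_one, MonObj.comp_one, _root_.mul_one]
  haveI : Surjective (F.map π).left :=
    MorphismProperty.of_isPullback (P := @Surjective) (Groth.L08.SmallNorm.isPullback_map_gen (fe k k') π).flip hπ1
  haveI : Surjective m.left := hm1
  haveI : Surjective ((snd A K).left ≫ (iK ≫ F.map π).left) := by
    rw [← Over.comp_left, ← hmw, Over.comp_left]; infer_instance
  haveI := hπ2
  haveI := hπ3
  haveI := hπ1
  haveI := hRl
  refine ⟨K, gK, iK, hiK, hK, hKa, hKl, Surjective.of_comp (snd A K).left _, ?_⟩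
  exact Groth.L24.Alg.locallyOfFiniteType_of_fppf_comp (χ := π.left) (g := Q.hom) (by rw [Over.w π]; infer_instance)

include hfac hQ in
theorem isAffine_quotient : IsAffine Q.left := by
  obtain ⟨K, gK, iK, _, hK, _, _, hs, hQl⟩ := exists_surjective_kernel hR p hfac hQ
  obtain ⟨_, _, _, _⟩ := fe_props k k'
  haveI : Surjective (fe k k') := Groth.L05.CurveNorm.surjective_ext k k'
  haveI := hQl
  haveI : LocallyOfFiniteType (Red.bc (fe k k') Q).hom := inferInstanceAs (LocallyOfFiniteType (pullback.snd Q.hom _))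
  haveI : IsAffine (Red.bc (fe k k') Q).left :=
    Groth.L08.NormalQuot.isAffine_of_surjective_hom (iK ≫ (Over.pullback (fe k k')).map π)
  haveI : IsAffine (pullback Q.hom (fe k k')) := ‹IsAffine (Red.bc (fe k k') Q).left›
  haveI : IsAffineHom Q.hom :=
    MorphismProperty.of_pullback_snd_of_descendsAlong (P := @IsAffineHom)
      (Q := @Surjective ⊓ @Flat ⊓ @QuasiCompact) (f := Q.hom) (g := fe k k') ⟨⟨‹_›, ‹_›⟩, inferInstance⟩
      (inferInstanceAs (IsAffineHom (pullback.snd Q.hom (fe k k'))))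
  exact isAffine_of_isAffineHom Q.hom

/-- Points lift along surjections over algebraically closed fields. -/
theorem exists_lift_algClosed {X Y : Over (Spec (CommRingCat.of k'))} (w : X ⟶ Y) [Surjective w.left]
    [LocallyOfFiniteType w.left] {Ω : Type u} [Field Ω] [IsAlgClosed Ω] [Algebra k' Ω]
    (s : specOver k' Ω ⟶ Y) : ∃ z : specOver k' Ω ⟶ X, z ≫ w = s := by
  let P := pullback w.left s.left
  let π₂ : P ⟶ Spec (CommRingCat.of Ω) := pullback.snd w.left s.left
  haveI : Surjective π₂ := MorphismProperty.pullback_snd (P := @Surjective) _ _ ‹_›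
  haveI : LocallyOfFiniteType π₂ := MorphismProperty.pullback_snd (P := @LocallyOfFiniteType) _ _ ‹_›
  haveI : JacobsonSpace P := LocallyOfFiniteType.jacobsonSpace π₂
  obtain ⟨y, -⟩ := π₂.surjective (IsLocalRing.closedPoint Ω)
  obtain ⟨x, -, hx⟩ := nonempty_inter_closedPoints (X := P) (Z := Set.univ) ⟨y, trivial⟩ isOpen_univ.isLocallyClosed
  let σ := pointOfClosedPoint π₂ x hx
  have hσ : σ ≫ π₂ = 𝟙 _ := pointOfClosedPoint_comp π₂ x hx
  have e : (σ ≫ pullback.fst w.left s.left) ≫ w.left = s.left := by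
    rw [Category.assoc, pullback.condition, ← Category.assoc]
    exact (congrArg (· ≫ s.left) hσ).trans (Category.id_comp _)
  refine ⟨Over.homMk (σ ≫ pullback.fst w.left s.left) ?_, Over.OverMorphism.ext e⟩
  show (σ ≫ pullback.fst w.left s.left) ≫ X.hom = _
  rw [← Over.w w, ← Category.assoc, e, Over.w s]

include hfac hQ in
theorem hasNoSubtorus_quotient {Ω : Type u} [Field Ω] [IsAlgClosed Ω]
    (gp : Spec (CommRingCat.of Ω) ⟶ Spec (CommRingCat.of k)) : Red.HasNoSubtorus Ω (Red.bc gp Q) := by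
  obtain ⟨K, gK, iK, _, hK, _, _, hs, hQl⟩ := exists_surjective_kernel hR p hfac hQ
  obtain ⟨U, B, _, _, a, -, hU⟩ := exists_chart Gbar
  obtain ⟨φ, rfl⟩ := Spec.map_surjective gp
  letI : Algebra k Ω := φ.hom.toAlgebra
  letI : Algebra k' Ω := (IsAlgClosed.lift (R := k) (S := k') (M := Ω)).toRingHom.toAlgebra
  haveI : IsScalarTower k k' Ω := IsScalarTower.of_algebraMap_eq fun x =>
    ((IsAlgClosed.lift (R := k) (S := k') (M := Ω)).commutes x).symm
  haveI := hQl
  haveI : LocallyOfFiniteType (Red.bc (fe k k') Q).hom := inferInstanceAs (LocallyOfFiniteType (pullback.snd Q.hom _))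
  let w := iK ≫ (Over.pullback (fe k k')).map π
  haveI : IsMonHom w := inferInstance
  haveI : LocallyOfFiniteType (w.left ≫ (Red.bc (fe k k') Q).hom) := by rw [Over.w w]; infer_instance
  haveI := locallyOfFiniteType_of_comp w.left (Red.bc (fe k k') Q).hom
  let adj := Over.mapPullbackAdj (Spec.map φ)
  let ω : specOver k Ω ≅ (Over.map (Spec.map φ)).obj (𝟙_ (Over (Spec (CommRingCat.of Ω)))) :=
    Over.isoMk (Iso.refl _) (by
      show 𝟙 _ ≫ 𝟙 _ ≫ Spec.map φ = _
      rw [Category.id_comp, Category.id_comp]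
      rfl)
  let e' := (Over.mapPullbackAdj (fe k k')).homEquiv (specOver k' Ω) Q
  refine hasNoSubtorus_of_torsion _ fun n t hn ht => ?_
  let s := ω.hom ≫ (adj.homEquiv _ Q).symm t
  have hs0 : (adj.homEquiv _ Q).symm t ^ n = 1 := (adj.homEquiv _ Q).injective (by
    rw [homEquiv_pow, homEquiv_one, Equiv.apply_symm_apply, ht])
  have hsn : s ^ n = 1 := by rw [← MonObj.comp_pow, hs0, MonObj.comp_one]
  let s' := e' ((theta k k' Ω).hom ≫ s)
  have hs' : s' ^ n = 1 := by
    rw [← homEquiv_pow, ← MonObj.comp_pow, hsn, MonObj.comp_one, homEquiv_one]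
  obtain ⟨z, hz⟩ := exists_lift_algClosed w s'
  obtain ⟨N, hN, hcop⟩ := exists_killing hR iK hK a hU Ω z
  have h1 : s' = 1 := by
    have e : s' ^ N = 1 := by rw [← hz, ← MonObj.pow_comp, hN, MonObj.one_comp]
    have e2 : s' ^ Nat.gcd n N = 1 := pow_gcd_eq_one.2 ⟨hs', e⟩
    rwa [(hcop n hn).gcd_eq_one, pow_one] at e2
  have h2 : s = 1 := (cancel_epi (theta k k' Ω).hom).1 (e'.injective (by
    rw [MonObj.comp_one, homEquiv_one]; exact h1))
  have h3 : (adj.homEquiv _ Q).symm t = 1 := (cancel_epi ω.hom).1 (by rw [MonObj.comp_one]; exact h2)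
  rw [← (adj.homEquiv _ Q).apply_symm_apply t]
  exact (congrArg _ h3).trans (homEquiv_one _)

end Quotient

end Groth.L08.WeilInsep
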