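import Groth.Agent.L08.WeilInsep.Coideal
import Groth.Agent.L08.Flag
import Groth.Agent.L08.Chevalley

/-!
# Quotients of unipotent affine groups are affine: the orbit ring
-/

set_option autoImplicit false
set_option linter.style.haveILetI false
set_option linter.unusedSectionVars false
universe u

open TensorProduct WithConv

noncomputable section

namespace Groth.L08.WeilInsep

open Groth.L08 (pinv pinv_mul mul_pinv fAct fAct_apply Step)

variable {k : Type u} [Field k] {A : Type u} [CommRing A] [HopfAlgebra k A]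
  {V : Type u} [AddCommGroup V] [Module k V] [HopfRep.Comod k A V]

local notation "ρ" => HopfRep.Comod.coact (k := k) (A := A)

/-- A coefficient of a coaction. -/
def coef (l : V →ₗ[k] k) (v : V) : A := TensorProduct.lid k A (l.rTensor A (ρ v))

theorem eq_zero_of_functionals {R : Type u} [AddCommGroup R] [Module k R] (z : V ⊗[k] R)
    (h : ∀ l : V →ₗ[k] k, TensorProduct.lid k R (l.rTensor R z) = 0) : z = 0 := by
  classical
  let b := Module.Basis.ofVectorSpace k V
  apply (TensorProduct.equivFinsuppOfBasisLeft b).injective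
  rw [map_zero]
  refine Finsupp.ext fun i => ?_
  have e : ∀ w : V ⊗[k] R, TensorProduct.lid k R ((b.coord i).rTensor R w) =
      TensorProduct.equivFinsuppOfBasisLeft b w i := fun w => by
    induction w with
    | zero => simp
    | tmul x r => simp
    | add p q hp hq => simp only [map_add, Finsupp.add_apply, hp, hq]
  rw [← e, h]
  rfl

variable (A) in
/-- The subalgebra generated by the coefficients of a vector killed by a subspace. -/
def coefAlg (v : V) (W : Submodule k V) : Subalgebra k A :=
  Algebra.adjoin k ((fun l => coef l v) '' {l : V →ₗ[k] k | ∀ w ∈ W, l w = 0})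

theorem coefAlg_anti (v : V) {W W' : Submodule k V} (h : W ≤ W') : coefAlg A v W' ≤ coefAlg A v W :=
  Algebra.adjoin_mono (Set.image_mono fun _ hl w hw => hl w (h hw))

theorem coef_isPrim (v : V) {W W' : Submodule k V} (hst : Step (1 : A) W W') (l : V →ₗ[k] k)
    (hl : ∀ w ∈ W, l w = 0) : IsPrim (coefAlg A v W') (coef l v) := by
  obtain ⟨π₀, hπ₀⟩ := W'.subtype.exists_leftInverse_of_injective (Submodule.ker_subtype W')
  let π : V →ₗ[k] V := W'.subtype ∘ₗ π₀
  let θ : V →ₗ[k] V := LinearMap.id - π
  have hθ : ∀ w ∈ W', θ w = 0 := fun w hw => by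
    have h1 : π₀ w = ⟨w, hw⟩ := LinearMap.congr_fun hπ₀ ⟨w, hw⟩
    show w - (π₀ w : V) = 0
    rw [h1, sub_self]
  let la : V →ₗ[k] A := (TensorProduct.lid k A).toLinearMap ∘ₗ l.rTensor A ∘ₗ ρ
  have hla : ∀ w ∈ W', la w = l w • (1 : A) := fun w hw => by
    have h1 := Groth.L08.step_iff_range.1 hst w hw
    obtain ⟨y, hy⟩ := h1
    show TensorProduct.lid k A (l.rTensor A (ρ w)) = _
    rw [← sub_add_cancel (ρ w) (w ⊗ₜ[k] (1 : A)), ← hy, map_add, map_add, LinearMap.rTensor_tmul,
      TensorProduct.lid_tmul, ← LinearMap.comp_apply, ← LinearMap.rTensor_comp,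
      show l ∘ₗ W.subtype = 0 from LinearMap.ext fun x => hl x.1 x.2, LinearMap.rTensor_zero]
    simp
  -- comultiplication of the coefficient
  have hΔ : Bialgebra.comulAlgHom k A (coef l v) = la.rTensor A (ρ v) := by
    have h1 := congrArg (fun z => TensorProduct.lid k (A ⊗[k] A) (l.rTensor (A ⊗[k] A) z))
      (Groth.L08.coassoc_apply (k := k) (A := A) v)
    have e1 : ∀ y : V ⊗[k] A, TensorProduct.lid k (A ⊗[k] A) (l.rTensor (A ⊗[k] A)
        (TensorProduct.assoc k V A A ((ρ : V →ₗ[k] V ⊗[k] A).rTensor A y))) = la.rTensor A y := fun y => by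
      induction y with
      | zero => simp
      | add p q hp hq => simp only [map_add, hp, hq]
      | tmul x a =>
        rw [LinearMap.rTensor_tmul, LinearMap.rTensor_tmul]
        show _ = (TensorProduct.lid k A (l.rTensor A (ρ x))) ⊗ₜ a
        induction ρ x with
        | zero => simp
        | add p q hp hq => simp only [add_tmul, map_add, hp, hq]
        | tmul p q => simp [TensorProduct.smul_tmul']
    have e2 : ∀ y : V ⊗[k] A, TensorProduct.lid k (A ⊗[k] A) (l.rTensor (A ⊗[k] A)
        ((Coalgebra.comul (R := k) (A := A)).lTensor V y)) =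
          Coalgebra.comul (R := k) (TensorProduct.lid k A (l.rTensor A y)) := fun y => by
      induction y with
      | zero => simp
      | add p q hp hq => simp only [map_add, hp, hq]
      | tmul x a => simp
    rw [e1, e2] at h1
    exact h1.symm
  -- the split of the coaction
  let R := (Algebra.TensorProduct.map (AlgHom.id k A) (coefAlg A v W').val).range
  have hθmem : ∀ g : V →ₗ[k] k, TensorProduct.lid k A ((g ∘ₗ θ).rTensor A (ρ v)) ∈ coefAlg A v W' := fun g =>
    Algebra.subset_adjoin ⟨g ∘ₗ θ, fun w hw => by rw [LinearMap.comp_apply, hθ w hw, map_zero], rfl⟩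
  have hR : ∀ g : V →ₗ[k] A, g.rTensor A (θ.rTensor A (ρ v)) ∈ R := by
    intro g
    classical
    let b := Module.Basis.ofVectorSpace k V
    obtain ⟨s, hs⟩ : ∃ s, θ.rTensor A (ρ v) = s := ⟨_, rfl⟩
    have hs' : s = ((TensorProduct.equivFinsuppOfBasisLeft b) s).sum fun i a => b i ⊗ₜ a :=
      ((TensorProduct.equivFinsuppOfBasisLeft b).symm_apply_apply s).symm.trans
        (TensorProduct.equivFinsuppOfBasisLeft_symm_apply b _)
    have e : ∀ w : V ⊗[k] A, ∀ i, TensorProduct.equivFinsuppOfBasisLeft b w i =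
        TensorProduct.lid k A ((b.coord i).rTensor A w) := fun w i => by
      induction w with
      | zero => simp
      | tmul x r => simp
      | add p q hp hq => simp only [map_add, Finsupp.add_apply, hp, hq]
    rw [hs, hs', map_finsuppSum]
    refine Submodule.finsuppSum_mem k R.toSubmodule _ _ fun i _ => ?_
    rw [LinearMap.rTensor_tmul, e, ← hs, ← LinearMap.comp_apply (g := θ.rTensor A), ← LinearMap.rTensor_comp]
    exact ⟨g (b i) ⊗ₜ ⟨_, hθmem (b.coord i)⟩, rfl⟩
  show Bialgebra.comulAlgHom k A (coef l v) - 1 ⊗ₜ coef l v ∈ R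
  have hsplit : ρ v = π.rTensor A (ρ v) + θ.rTensor A (ρ v) := by
    rw [← LinearMap.add_apply, ← LinearMap.rTensor_add, show π + θ = LinearMap.id from add_sub_cancel π LinearMap.id,
      LinearMap.rTensor_id, LinearMap.id_apply]
  have hπ : la.rTensor A (π.rTensor A (ρ v)) = (1 : A) ⊗ₜ[k] TensorProduct.lid k A (l.rTensor A (π.rTensor A (ρ v))) := by
    induction ρ v with
    | zero => simp
    | add p q hp hq => simp only [map_add, TensorProduct.tmul_add, hp, hq]
    | tmul x a =>
      simp only [LinearMap.rTensor_tmul, TensorProduct.lid_tmul]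
      rw [hla (π x) (π₀ x).2, TensorProduct.smul_tmul]
  rw [hΔ, coef]
  rw [hsplit]
  rw [map_add, map_add, map_add, hπ, TensorProduct.tmul_add, add_sub_add_left_eq_sub]
  refine sub_mem (hR la) ?_
  rw [← LinearMap.comp_apply (g := θ.rTensor A), ← LinearMap.rTensor_comp]
  exact ⟨1 ⊗ₜ ⟨_, hθmem l⟩, rfl⟩

theorem coefAlg_step (v : V) {W W' : Submodule k V} (hle : W ≤ W') :
    coefAlg A v W = Algebra.adjoin k ((coefAlg A v W' : Set A) ∪
      (fun l => coef l v) '' {l : V →ₗ[k] k | ∀ w ∈ W, l w = 0}) := by
  refine le_antisymm (Algebra.adjoin_mono Set.subset_union_right) (Algebra.adjoin_le ?_)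
  rintro x (hx | hx)
  · exact coefAlg_anti v hle hx
  · exact Algebra.subset_adjoin hx

theorem coefAlg_top (v : V) : coefAlg A v (⊤ : Submodule k V) = ⊥ := by
  refine le_bot_iff.1 (Algebra.adjoin_le ?_)
  rintro _ ⟨l, hl, rfl⟩
  show coef l v ∈ (⊥ : Subalgebra k A)
  rw [coef, show l = 0 from LinearMap.ext fun w => hl w trivial]
  simp

theorem faithfullyFlat_bot [Nontrivial A] : Module.FaithfullyFlat (⊥ : Subalgebra k A) A := by
  have hinj : Function.Injective (algebraMap k A) := (algebraMap k A).injective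
  have hF : IsField (⊥ : Subalgebra k A) :=
    MulEquiv.isField (Field.toIsField k) (Algebra.botEquivOfInjective hinj).toMulEquiv
  letI := hF.toField
  infer_instance

theorem coefAlg_props (hU : HopfRep.IsUnipotent k A) [Module.Finite k V] (v : V) :
    IsCoid (coefAlg A v (⊥ : Submodule k V)) ∧
      Module.FaithfullyFlat (coefAlg A v (⊥ : Submodule k V)) A := by
  haveI : Nontrivial A := (Bialgebra.counitAlgHom k A).toRingHom.domain_nontrivial
  obtain ⟨F, hmono, h0, htop, -, hst⟩ := Groth.L08.exists_flag_of_isUnipotent hU V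
  let N := Module.finrank k V
  have key : ∀ i, i ≤ N → IsCoid (coefAlg A v (F (N - i))) ∧ (coefAlg A v (F (N - i))).val.toRingHom.FaithfullyFlat := by
    intro i
    induction i with
    | zero =>
      intro _
      rw [Nat.sub_zero, htop, coefAlg_top]
      refine ⟨fun z hz => ?_, ?_⟩
      · obtain ⟨r, rfl⟩ := Algebra.mem_bot.1 hz
        rw [AlgHom.commutes]
        exact Subalgebra.algebraMap_mem _ r
      · haveI := faithfullyFlat_bot (k := k) (A := A)
        exact RingHom.faithfullyFlat_algebraMap_iff.2 inferInstance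
    | succ i ih =>
      intro hi
      obtain ⟨hc, hf⟩ := ih (by omega)
      obtain ⟨g, rfl, hs⟩ := hst (N - (i + 1))
      rw [show N - (i + 1) + 1 = N - i by omega] at hs
      haveI : Module.FaithfullyFlat (coefAlg A v (F (N - i))) A := RingHom.faithfullyFlat_algebraMap_iff.1 hf
      have hT : ∀ t ∈ (fun l => coef l v) '' {l : V →ₗ[k] k | ∀ w ∈ F (N - (i + 1)), l w = 0},
          IsPrim (coefAlg A v (F (N - i))) t := by
        rintro _ ⟨l, hl, rfl⟩
        exact coef_isPrim v hs l hl
      rw [coefAlg_step v (hmono (show N - (i + 1) ≤ N - i by omega))]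
      exact ⟨isCoid_adjoin hc _ hT, faithfullyFlat_adjoin hc _ hT⟩
  obtain ⟨h1, h2⟩ := key N le_rfl
  rw [Nat.sub_self, h0] at h1 h2
  exact ⟨h1, RingHom.faithfullyFlat_algebraMap_iff.1 h2⟩

theorem stabilizesLine_iff_fix (hU : HopfRep.IsUnipotent k A) [Module.Finite k V] (v : V) (hv : v ≠ 0)
    (R : Type u) [CommRing R] [Algebra k R] (g : A →ₐ[k] R) :
    SGA3.StabilizesLine k A v R g ↔ ∀ z ∈ coefAlg A v (⊥ : Submodule k V), g z = algebraMap k R (Coalgebra.counit z) := by
  have hε : ∀ l : V →ₗ[k] k, Coalgebra.counit (R := k) (coef (A := A) l v) = l v := fun l => by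
    have h1 := Groth.L08.counit_apply (k := k) (A := A) v
    have e : ∀ y : V ⊗[k] A, Coalgebra.counit (R := k) (TensorProduct.lid k A (l.rTensor A y)) =
        l (TensorProduct.rid k V ((Coalgebra.counit (R := k) (A := A)).lTensor V y)) := fun y => by
      induction y with
      | zero => simp
      | add p q hp hq => simp only [map_add, hp, hq]
      | tmul x a => simp [mul_comm]
    rw [coef, e, h1, TensorProduct.rid_tmul, one_smul]
  have hg : ∀ (l : V →ₗ[k] k) (y : V ⊗[k] A),
      TensorProduct.lid k R (l.rTensor R (g.toLinearMap.lTensor V y)) = g (TensorProduct.lid k A (l.rTensor A y)) := by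
    intro l y
    induction y with
    | zero => simp
    | add p q hp hq => simp only [map_add, hp, hq]
    | tmul x a => simp
  constructor
  · rintro ⟨c, hc⟩
    obtain ⟨F, hmono, h0, htop, -, hst⟩ := Groth.L08.exists_flag_of_isUnipotent hU V
    classical
    have hex : ∃ i, v ∈ F i := ⟨Module.finrank k V, by rw [htop]; trivial⟩
    obtain ⟨j, hj⟩ : ∃ j, Nat.find hex = j + 1 := Nat.exists_eq_succ_of_ne_zero fun h => hv (by
      have := Nat.find_spec hex
      rwa [h, h0, Submodule.mem_bot] at this)
    have hjv : v ∈ F (j + 1) := hj ▸ Nat.find_spec hex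
    have hjn : v ∉ F j := Nat.find_min hex (by omega)
    obtain ⟨l, hl⟩ := Submodule.exists_dual_map_eq_bot_of_notMem hjn inferInstance
    obtain ⟨hlv, hlF⟩ := hl
    have hlF' : ∀ w ∈ F j, l w = 0 := fun w hw => by
      have : l w ∈ (F j).map l := ⟨w, hw, rfl⟩
      rwa [hlF, Submodule.mem_bot] at this
    have hcl : coef (A := A) l v = l v • (1 : A) := by
      obtain ⟨g', rfl, hs⟩ := hst j
      obtain ⟨y, hy⟩ := Groth.L08.step_iff_range.1 hs v hjv
      rw [coef, ← sub_add_cancel (ρ v) (v ⊗ₜ[k] (1 : A)), ← hy, map_add, map_add, LinearMap.rTensor_tmul,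
        TensorProduct.lid_tmul, ← LinearMap.comp_apply, ← LinearMap.rTensor_comp,
        show l ∘ₗ (F j).subtype = 0 from LinearMap.ext fun x => hlF' x.1 x.2, LinearMap.rTensor_zero]
      simp
    have hco : ∀ l' : V →ₗ[k] k, g (coef l' v) = l' v • c := fun l' => by
      rw [coef, ← hg, hc, LinearMap.rTensor_tmul, TensorProduct.lid_tmul]
    have hc1 : c = 1 := by
      have := hco l
      rw [hcl, map_smul, map_one] at this
      exact (smul_right_injective R hlv this).symm
    intro z hz
    refine ((AlgHom.mem_equalizer g ((Algebra.ofId k R).comp (Bialgebra.counitAlgHom k A)) z).1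
      (Algebra.adjoin_le ?_ hz) : g z = _)
    rintro _ ⟨l', -, rfl⟩
    show g (coef l' v) = algebraMap k R (Coalgebra.counit (coef (A := A) l' v))
    rw [hco, hc1, hε, Algebra.algebraMap_eq_smul_one]
  · intro h
    refine ⟨1, sub_eq_zero.1 (eq_zero_of_functionals _ fun l => ?_)⟩
    rw [map_sub, map_sub, hg, LinearMap.rTensor_tmul, TensorProduct.lid_tmul, ← coef,
      h _ (Algebra.subset_adjoin ⟨l, fun w hw => by rw [(Submodule.mem_bot k).1 hw, map_zero], rfl⟩), hε,
      Algebra.algebraMap_eq_smul_one, sub_self]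

/-- The ring of functions on the quotient of a unipotent group by a closed subgroup. -/
theorem exists_quotientRing [Algebra.FiniteType k A] (hU : HopfRep.IsUnipotent k A) (I : Ideal A) [I.IsHopfIdeal k] :
    ∃ C : Subalgebra k A, C.FG ∧ Module.FaithfullyFlat C A ∧
      ∀ (R : Type u) [CommRing R] [Algebra k R] (g h : WithConv (A →ₐ[k] R)),
        (∀ z ∈ C, g.ofConv z = h.ofConv z) ↔ ∀ a ∈ I, (pinv g * h).ofConv a = 0 := by
  obtain ⟨V, _, _, _, _, v, hv, hrep⟩ := Chevalley.exists_line (k := k) I
  obtain ⟨hc, hf⟩ := coefAlg_props (A := A) hU v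
  refine ⟨coefAlg A v (⊥ : Submodule k V), ?_, hf, fun R _ _ g h => ?_⟩
  · classical
    let b := Module.Free.chooseBasis k V
    refine ⟨Finset.univ.image fun i => coef (A := A) (b.coord i) v, le_antisymm (Algebra.adjoin_le ?_) (Algebra.adjoin_le ?_)⟩
    · intro x hx
      obtain ⟨i, -, rfl⟩ := Finset.mem_image.1 hx
      exact Algebra.subset_adjoin ⟨b.coord i, fun w hw => by rw [(Submodule.mem_bot k).1 hw, map_zero], rfl⟩
    · rintro _ ⟨l, -, rfl⟩
      have hl : l = ∑ i, l (b i) • b.coord i := b.ext fun j => by simp [Finsupp.single_apply]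
      show coef l v ∈ _
      rw [hl]
      change coef (A := A) (∑ i, l (b i) • b.coord i) v ∈ _
      rw [show coef (A := A) (∑ i, l (b i) • b.coord i) v = ∑ i, l (b i) • coef (A := A) (b.coord i) v by
        simp only [coef]
        induction HopfRep.Comod.coact (k := k) (A := A) v with
        | zero => simp
        | tmul x a =>
          simp only [LinearMap.rTensor_tmul, TensorProduct.lid_tmul, LinearMap.coe_sum, Finset.sum_apply,
            LinearMap.smul_apply, Finset.sum_smul, smul_smul, smul_eq_mul]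
        | add p q hp hq => simp only [map_add, smul_add, Finset.sum_add_distrib, hp, hq]]
      exact Subalgebra.sum_mem _ fun i _ => Subalgebra.smul_mem _
        (Algebra.subset_adjoin (Finset.mem_image.2 ⟨i, Finset.mem_univ _, rfl⟩)) _
  · have hI : (∀ a ∈ I, (pinv g * h).ofConv a = 0) ↔
        ∀ z ∈ coefAlg A v (⊥ : Submodule k V), (pinv g * h).ofConv z = algebraMap k R (Coalgebra.counit z) :=
      (hrep R (pinv g * h).ofConv).trans (stabilizesLine_iff_fix hU v hv R _)
    rw [hI]
    constructor
    · intro e z hz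
      rw [conv_congr hc (pinv g) h g (fun w hw => (e w hw).symm) hz, pinv_mul]
      exact AlgHom.convOne_apply z
    · intro e z hz
      have := conv_unit hc g (pinv g * h) e hz
      rw [mul_pinv_cancel_left'] at this
      exact this.symm

end Groth.L08.WeilInsep
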