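import Groth.Agent.L08.WeilInsep.Unip
import Groth.Agent.L08.WeilInsep.UnipQuot
import Groth.Agent.L08.WeilInsep.Quot
import Groth.Agent.L28.Ext.Basic
import Groth.Prelude.Def_ChGrp
import Mathlib.RingTheory.FinitePresentation

/-!
# The homogeneous space of the image of the comparison map is affine
-/

set_option autoImplicit false
set_option backward.isDefEq.respectTransparency.types false
set_option linter.style.haveILetI false
set_option linter.unusedSectionVars false
universe u

open CategoryTheory CategoryTheory.Limits MonoidalCategory CartesianMonoidalCategory MonObj AlgebraicGeometry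
open Groth.L13.WeilRes (specOver specHom)
open Groth.L08.HomSpace (specOf)
open WithConv

noncomputable section

namespace Groth.L08.WeilInsep

open Groth.L28.Ext (Cov)

section Cover

variable {S : Scheme.{u}} {X Y Z : Over S}

theorem cov_of_fppf (q : X ⟶ Y) [Surjective q.left] [Flat q.left] [LocallyOfFinitePresentation q.left] : Cov q := by
  refine Groth.L28.Ext.cov_of_isLocallyTrivialFor q ⟨Presieve.singleton q.left, ?_, ?_⟩
  · rw [Scheme.fppfPrecoverage, Scheme.singleton_mem_precoverage_iff]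
    exact ⟨(inferInstance : Surjective q.left).1, ‹Flat q.left›, ‹LocallyOfFinitePresentation q.left›⟩
  · rintro _ _ ⟨⟩
    exact ⟨𝟙 _, Category.id_comp _⟩

theorem cov_comp {q : X ⟶ Y} {r : Y ⟶ Z} (hq : Cov q) (hr : Cov r) : Cov (q ≫ r) := by
  refine Scheme.fppfTopology.transitive hr _ fun T f hf => ?_
  obtain ⟨_, s, _, ⟨⟩, hs⟩ := hf
  refine Scheme.fppfTopology.superset_covering ?_ (Scheme.fppfTopology.pullback_stable s hq)
  rintro T' g ⟨_, s', _, ⟨⟩, hs'⟩
  refine ⟨X.left, s', (q ≫ r).left, Presieve.singleton_self _, ?_⟩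
  rw [Over.comp_left, ← Category.assoc, hs', Category.assoc, hs]

theorem cov_of_comp {q : X ⟶ Y} {r : Y ⟶ Z} (h : Cov (q ≫ r)) : Cov r := by
  refine Scheme.fppfTopology.superset_covering ?_ h
  rintro T f ⟨_, s, _, ⟨⟩, hs⟩
  exact ⟨_, s ≫ q.left, r.left, Presieve.singleton_self _, by rw [Category.assoc, ← Over.comp_left, hs]⟩

theorem cov_map {S' : Scheme.{u}} (t : S' ⟶ S) {q : X ⟶ Y} (hq : Cov q) : Cov ((Over.pullback t).map q) := by
  refine Scheme.fppfTopology.superset_covering ?_
    (Scheme.fppfTopology.pullback_stable (pullback.fst Y.hom t) hq)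
  rintro T g ⟨_, s, _, ⟨⟩, hs⟩
  have sq := Groth.L08.SmallNorm.isPullback_map_gen t q
  exact ⟨_, sq.lift g s hs.symm, ((Over.pullback t).map q).left, Presieve.singleton_self _, sq.lift_fst _ _ _⟩

theorem exists_iso_of_cov {X' : Over S} {p : X ⟶ Y} {p' : X ⟶ X'} (hp : Cov p) (hp' : Cov p')
    (h : ∀ (T : Over S) (a b : T ⟶ X), a ≫ p = b ≫ p ↔ a ≫ p' = b ≫ p') : Nonempty (Y ≅ X') := by
  obtain ⟨u, hu⟩ := Groth.L28.Ext.descend hp p' fun T a b e => (h T a b).1 e
  obtain ⟨v, hv⟩ := Groth.L28.Ext.descend hp' p fun T a b e => (h T a b).2 e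
  exact ⟨⟨u, v, Groth.L28.Ext.cancel hp (by rw [← Category.assoc, hu, hv, Category.comp_id]),
    Groth.L28.Ext.cancel hp' (by rw [← Category.assoc, hv, hu, Category.comp_id])⟩⟩

end Cover

variable {k k' : Type u} [Field k] [Field k'] [Algebra k k'] [Module.Finite k k'] [IsPurelyInseparable k k']
  {G : Over (Spec (CommRingCat.of k))} [GrpObj G] [LocallyOfFiniteType G.hom]
  {Gbar : Over (Spec (CommRingCat.of k'))} [GrpObj Gbar] [LocallyOfFiniteType Gbar.hom]
  {q : Red.bc (fe k k') G ⟶ Gbar} [IsMonHom q] [Surjective q.left] [Flat q.left]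
  {R : Over (Spec (CommRingCat.of k))} [GrpObj R] {qR : Red.bc (fe k k') R ⟶ Gbar} [IsMonHom qR]
  (hR : WeilRes.IsWeilRes (fe k k') Gbar R qR)
  {H : Over (Spec (CommRingCat.of k))} [GrpObj H] {j : H ⟶ R} [IsMonHom j] [IsClosedImmersion j.left]
  (p : G ⟶ H) (hfac : p ≫ j = hR.lift G q)
  {Q : Over (Spec (CommRingCat.of k))} (o : R ⟶ Q)
  (hsq : IsPullback (fst R H) ((R ◁ j) ≫ μ[R]) o o) (hcov : Cov o)

include hsq in
theorem map_eq_iff {T : Over (Spec (CommRingCat.of k'))} (x y : T ⟶ Red.bc (fe k k') R) :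
    x ≫ (Over.pullback (fe k k')).map o = y ≫ (Over.pullback (fe k k')).map o ↔
      ∃ h : T ⟶ Red.bc (fe k k') H, x * (h ≫ (Over.pullback (fe k k')).map j) = y := by
  let F := Over.pullback (fe k k')
  let l : F.obj (R ⊗ H) ⟶ Red.bc (fe k k') R ⊗ Red.bc (fe k k') H := lift (F.map (fst R H)) (F.map (snd R H))
  haveI : IsIso l := inferInstanceAs (IsIso (CartesianMonoidalCategory.prodComparison F R H))
  have sq' := hsq.map F
  have hμ : F.map ((R ◁ j) ≫ μ[R]) = F.map (fst R H) * (F.map (snd R H) ≫ F.map j) := by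
    rw [← F.map_comp, ← Functor.map_mul]
    congr 1
  constructor
  · intro e
    obtain ⟨ξ, h1, h2⟩ := sq'.exists_lift x y e
    refine ⟨ξ ≫ F.map (snd R H), ?_⟩
    rw [← h2, hμ, MonObj.comp_mul, h1, Category.assoc]
  · rintro ⟨h, rfl⟩
    let ξ := lift x h ≫ CategoryTheory.inv l
    have h1 : ξ ≫ F.map (fst R H) = x := by
      rw [← lift_fst x h, Category.assoc]
      congr 1
      rw [IsIso.inv_comp_eq, lift_fst]
    have h2 : ξ ≫ F.map (snd R H) = h := by
      rw [← lift_snd x h, Category.assoc]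
      congr 1
      rw [IsIso.inv_comp_eq, lift_snd]
    have e := congrArg (ξ ≫ ·) sq'.w
    simp only [← Category.assoc] at e
    rw [h1, hμ, MonObj.comp_mul, h1, ← Category.assoc, h2] at e
    exact e

include hfac hsq hcov in
theorem isAffine_homog : IsAffine Q.left := by
  obtain ⟨K, gK, iK, _, hK, hKa, hKl, ⟨hm1, hm2, hm3⟩, -⟩ := exists_cover (q := q) hR
  haveI := hKa
  haveI := hKl
  let F := Over.pullback (fe k k')
  let G' := Red.bc (fe k k') G
  haveI : Mono iK := mono_iK iK hK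
  let w : K ⟶ Red.bc (fe k k') Q := iK ≫ F.map o
  let m := (snd G' K ≫ iK) * (fst G' K ≫ F.map (hR.lift G q))
  haveI : Surjective m.left := hm1
  haveI : Flat m.left := hm2
  haveI : LocallyOfFinitePresentation m.left := hm3
  have hmw : m ≫ F.map o = snd G' K ≫ w := by
    rw [← Category.assoc]
    refine ((map_eq_iff o hsq (snd G' K ≫ iK) m).2 ⟨fst G' K ≫ F.map p, ?_⟩).symm
    rw [Category.assoc, ← F.map_comp, hfac]
  have hw : Cov w := by
    refine cov_of_comp (q := snd G' K) ?_
    rw [← hmw]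
    exact cov_comp (cov_of_fppf m) (cov_map _ hcov)
  -- the isotropy subgroup
  haveI : IsClosedImmersion (F.map j).left :=
    MorphismProperty.of_isPullback (P := @IsClosedImmersion)
      (Groth.L08.SmallNorm.isPullback_map_gen (fe k k') j).flip ‹_›
  haveI : Mono (F.map j) := Over.mono_of_mono_left _
  let L := pullback iK (F.map j)
  let i : L ⟶ K := pullback.fst iK (F.map j)
  haveI : IsClosedImmersion i.left :=
    MorphismProperty.of_isPullback (P := @IsClosedImmersion)
      ((IsPullback.of_hasPullback iK (F.map j)).map (Over.forget _)).flip ‹_›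
  haveI : Mono i := Over.mono_of_mono_left i
  have hi : ∀ {T : Over (Spec (CommRingCat.of k'))} (a : T ⟶ K),
      (∃ z : T ⟶ L, z ≫ i = a) ↔ ∃ h : T ⟶ Red.bc (fe k k') H, h ≫ F.map j = a ≫ iK := by
    intro T a
    refine ⟨?_, fun ⟨h, hh⟩ => ⟨pullback.lift a h hh.symm, pullback.lift_fst _ _ _⟩⟩
    rintro ⟨z, rfl⟩
    exact ⟨z ≫ pullback.snd _ _, by rw [Category.assoc, Category.assoc, ← pullback.condition]⟩
  obtain ⟨gL, hL⟩ := Groth.L08.exists_grpObj_of_mono i
    ((hi _).2 ⟨η, by rw [IsMonHom.one_hom (f := iK), IsMonHom.one_hom (f := F.map j)]⟩)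
    ((hi _).2 ⟨(fst L L ≫ pullback.snd _ _) * (snd L L ≫ pullback.snd _ _), by
      rw [MonObj.mul_comp, MonObj.mul_comp, Category.assoc, Category.assoc, Category.assoc, Category.assoc,
        ← pullback.condition]⟩)
    ((hi _).2 ⟨(pullback.snd iK (F.map j))⁻¹, by rw [GrpObj.inv_comp, GrpObj.inv_comp, ← pullback.condition]⟩)
  haveI := hL
  -- coordinates on the kernel
  obtain ⟨H₀, ⟨eG⟩⟩ := (essImage_hopfSpec (G := Grp.mk K)).mpr ‹IsAffine K.left›
  let A := H₀.unop
  let φ : specOf k' A ⟶ K := eG.hom.hom.hom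
  let ψ : K ⟶ specOf k' A := eG.inv.hom.hom
  have h1 : φ ≫ ψ = 𝟙 _ := congrArg (fun f => f.hom.hom) eG.hom_inv_id
  have h2 : ψ ≫ φ = 𝟙 K := congrArg (fun f => f.hom.hom) eG.inv_hom_id
  haveI : IsMonHom φ := eG.hom.hom.isMonHom_hom
  haveI : IsMonHom ψ := eG.inv.hom.isMonHom_hom
  haveI : IsIso φ := ⟨ψ, h1, h2⟩
  haveI : IsIso ψ := ⟨φ, h2, h1⟩
  haveI : IsIso φ.left := inferInstanceAs (IsIso ((Over.forget _).map φ))
  haveI : IsIso ψ.left := inferInstanceAs (IsIso ((Over.forget _).map ψ))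
  haveI hft : LocallyOfFiniteType (specOf k' A).hom := by rw [← Over.w φ]; infer_instance
  haveI : Algebra.FiniteType k' A := by
    change LocallyOfFiniteType (Spec.map (CommRingCat.ofHom (algebraMap k' A))) at hft
    rwa [HasRingHomProperty.Spec_iff (P := @LocallyOfFiniteType), CommRingCat.hom_ofHom,
      RingHom.finiteType_algebraMap] at hft
  haveI : IsClosedImmersion (i ≫ ψ).left := inferInstanceAs (IsClosedImmersion (i.left ≫ ψ.left))
  obtain ⟨I, hI, hpts⟩ := Groth.L08.HomSpace.exists_hopfIdeal (i ≫ ψ)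
  haveI := hI
  obtain ⟨C, hCfg, hCff, hC⟩ := exists_quotientRing (isUnipotent_kernel hR iK hK φ) I
  haveI := hCff
  haveI : Algebra.FiniteType k' C := C.fg_iff_finiteType.1 hCfg
  haveI : IsNoetherianRing C := Algebra.FiniteType.isNoetherianRing k' C
  let pC : specOf k' A ⟶ specOf k' C := (Spec.map (CommRingCat.ofHom C.val.toRingHom)).asOver _
  have hval : C.val.toRingHom.FaithfullyFlat := RingHom.faithfullyFlat_algebraMap_iff.2 hCff
  haveI : Surjective pC.left := ⟨(RingHom.FaithfullyFlat.iff_flat_and_comap_surjective.1 hval).2⟩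
  haveI : Flat pC.left := (HasRingHomProperty.Spec_iff (P := @Flat)).2 hval.flat
  haveI : LocallyOfFinitePresentation pC.left := by
    refine (HasRingHomProperty.Spec_iff (P := @LocallyOfFinitePresentation)).2 ?_
    haveI : Algebra.FiniteType C A := Algebra.FiniteType.of_restrictScalars_finiteType k' C A
    exact RingHom.finitePresentation_algebraMap.2 (Algebra.FinitePresentation.of_finiteType.1 inferInstance)
  -- the two kernel pairs agree
  have hfib : ∀ (T : Over (Spec (CommRingCat.of k'))) (x y : T ⟶ K),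
      x ≫ w = y ≫ w ↔ x ≫ ψ ≫ pC = y ≫ ψ ≫ pC := by
    have haff : ∀ (S : Type u) [CommRing S] [Algebra k' S] (g h : WithConv (A →ₐ[k'] S)),
        (Spec.mapMulEquiv g ≫ φ) ≫ w = (Spec.mapMulEquiv h ≫ φ) ≫ w ↔
          Spec.mapMulEquiv g ≫ pC = Spec.mapMulEquiv h ≫ pC := by
      intro S _ _ g h
      have hgi : Spec.mapMulEquiv (Groth.L08.pinv g) = (Spec.mapMulEquiv g)⁻¹ :=
        (inv_eq_of_mul_eq_one_left (((map_mul _ _ _).symm.trans (congrArg _ (Groth.L08.pinv_mul g))).trans (map_one _))).symm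
      rw [show ((Spec.mapMulEquiv g ≫ φ) ≫ w = (Spec.mapMulEquiv h ≫ φ) ≫ w) ↔
          ∃ z, z ≫ i = (Spec.mapMulEquiv g ≫ φ)⁻¹ * (Spec.mapMulEquiv h ≫ φ) from ?_]
      · constructor
        · rintro ⟨z, hz⟩
          have e : z ≫ i ≫ ψ = Spec.mapMulEquiv (Groth.L08.pinv g * h) := by
            rw [← Category.assoc, hz, map_mul, hgi, MonObj.mul_comp, GrpObj.inv_comp, Category.assoc, Category.assoc,
              h1, Category.comp_id, Category.comp_id]
          have e2 := (hC S g h).2 ((hpts S _).1 ⟨z, e⟩)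
          ext1
          show Spec.map (CommRingCat.ofHom g.ofConv.toRingHom) ≫ Spec.map _ = Spec.map _ ≫ Spec.map _
          rw [← Spec.map_comp, ← Spec.map_comp]
          congr 1
          ext c
          exact e2 c.1 c.2
        · intro e
          have e1 : Spec.map (CommRingCat.ofHom C.val.toRingHom ≫ CommRingCat.ofHom g.ofConv.toRingHom) =
              Spec.map (CommRingCat.ofHom C.val.toRingHom ≫ CommRingCat.ofHom h.ofConv.toRingHom) := by
            rw [Spec.map_comp, Spec.map_comp]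
            exact congrArg CommaMorphism.left e
          have e2 : ∀ c ∈ C, g.ofConv c = h.ofConv c := fun c hc =>
            congrArg (fun z => z.hom ⟨c, hc⟩) (Spec.map_injective e1)
          obtain ⟨z, hz⟩ := (hpts S _).2 ((hC S g h).1 e2)
          refine ⟨z, ?_⟩
          rw [← cancel_mono ψ, Category.assoc, hz, map_mul, hgi, MonObj.mul_comp, GrpObj.inv_comp, Category.assoc,
            Category.assoc, h1, Category.comp_id, Category.comp_id]
      · rw [hi, show w = iK ≫ F.map o from rfl, ← Category.assoc, ← Category.assoc, map_eq_iff o hsq]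
        refine exists_congr fun t => ?_
        rw [MonObj.mul_comp, GrpObj.inv_comp, eq_inv_mul_iff_mul_eq]
    intro T x y
    have key : ∀ (S : Type u) [CommRing S] [Algebra k' S] (t : specOf k' S ⟶ T),
        t ≫ x ≫ w = t ≫ y ≫ w ↔ t ≫ x ≫ ψ ≫ pC = t ≫ y ≫ ψ ≫ pC := by
      intro S _ _ t
      obtain ⟨g, hg⟩ := (Spec.mapMulEquiv (R := k') (S := A) (T := S)).surjective (t ≫ x ≫ ψ)
      obtain ⟨h, hh⟩ := (Spec.mapMulEquiv (R := k') (S := A) (T := S)).surjective (t ≫ y ≫ ψ)
      have ex : t ≫ x = Spec.mapMulEquiv g ≫ φ := by rw [hg]; simp only [Category.assoc, h2, Category.comp_id]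
      have ey : t ≫ y = Spec.mapMulEquiv h ≫ φ := by rw [hh]; simp only [Category.assoc, h2, Category.comp_id]
      rw [← Category.assoc t x w, ← Category.assoc t y w, ex, ey, haff S g h, hg, hh]
      simp only [Category.assoc]
    exact ⟨fun e => Groth.L08.HomSpace.hom_ext_affine _ _ fun S _ _ t => (key S t).1 (by rw [e]),
      fun e => Groth.L08.HomSpace.hom_ext_affine _ _ fun S _ _ t => (key S t).2 (by rw [e])⟩
  haveI : Surjective (ψ ≫ pC).left := inferInstanceAs (Surjective (ψ.left ≫ pC.left))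
  haveI : Flat (ψ ≫ pC).left := inferInstanceAs (Flat (ψ.left ≫ pC.left))
  haveI : LocallyOfFinitePresentation (ψ ≫ pC).left :=
    inferInstanceAs (LocallyOfFinitePresentation (ψ.left ≫ pC.left))
  obtain ⟨e⟩ := exists_iso_of_cov hw (cov_of_fppf (ψ ≫ pC)) hfib
  haveI : IsIso e.hom.left := inferInstanceAs (IsIso ((Over.forget _).map e.hom))
  haveI : IsAffine (specOf k' C).left := inferInstanceAs (IsAffine (Spec (CommRingCat.of C)))
  haveI : IsAffine (Red.bc (fe k k') Q).left := IsAffine.of_isIso e.hom.left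
  obtain ⟨_, _, _, _⟩ := fe_props k k'
  haveI : Surjective (fe k k') := Groth.L05.CurveNorm.surjective_ext k k'
  haveI : IsAffine (pullback Q.hom (fe k k')) := ‹IsAffine (Red.bc (fe k k') Q).left›
  haveI : IsAffineHom Q.hom :=
    MorphismProperty.of_pullback_snd_of_descendsAlong (P := @IsAffineHom)
      (Q := @Surjective ⊓ @Flat ⊓ @QuasiCompact) (f := Q.hom) (g := fe k k') ⟨⟨‹_›, ‹_›⟩, inferInstance⟩
      (inferInstanceAs (IsAffineHom (pullback.snd Q.hom (fe k k'))))
  exact isAffine_of_isAffineHom Q.hom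

end Groth.L08.WeilInsep
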