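import Groth.Agent.L25.HomScheme.Weil
import Groth.Prelude.Def_WeilRes

/-!
# Weil restriction of affine schemes along finite locally free morphisms
-/

set_option autoImplicit false
set_option backward.isDefEq.respectTransparency.types false
set_option linter.style.haveILetI false
universe u

open CategoryTheory CategoryTheory.Limits MonoidalCategory CartesianMonoidalCategory AlgebraicGeometry

noncomputable section

namespace Groth.L08.WeilInsep

variable {S S' : Scheme.{u}} (f : S' ⟶ S)

/-- The product with the covering as a base change. -/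
def sigma (T : Over S) : (Red.bc f T).left ≅ (Over.mk f ⊗ T).left := pullbackSymmetry T.hom f

theorem sigma_fst (T : Over S) :
    (sigma f T).hom ≫ (fst (Over.mk f) T).left = pullback.snd T.hom f :=
  pullbackSymmetry_hom_comp_fst _ _

theorem sigma_snd (T : Over S) :
    (sigma f T).hom ≫ (snd (Over.mk f) T).left = pullback.fst T.hom f :=
  pullbackSymmetry_hom_comp_snd _ _

theorem sigma_natural {T T' : Over S} (g : T' ⟶ T) :
    ((Over.pullback f).map g).left ≫ (sigma f T).hom =
      (sigma f T').hom ≫ (Over.mk f ◁ g).left := by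
  apply pullback.hom_ext
  · show (((Over.pullback f).map g).left ≫ (sigma f T).hom) ≫ (fst (Over.mk f) T).left =
      ((sigma f T').hom ≫ (Over.mk f ◁ g).left) ≫ (fst (Over.mk f) T).left
    rw [Category.assoc, sigma_fst, Category.assoc, ← Over.comp_left, whiskerLeft_fst, sigma_fst]
    exact pullback.lift_snd _ _ _
  · show (((Over.pullback f).map g).left ≫ (sigma f T).hom) ≫ (snd (Over.mk f) T).left =
      ((sigma f T').hom ≫ (Over.mk f ◁ g).left) ≫ (snd (Over.mk f) T).left
    rw [Category.assoc, sigma_snd, Category.assoc, ← Over.comp_left, whiskerLeft_snd, Over.comp_left,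
      ← Category.assoc, sigma_snd]
    exact pullback.lift_fst _ _ _

/-- The Weil restriction of a relatively affine scheme exists and is relatively affine. -/
theorem exists_isWeilRes_affine [IsFinite f] [Flat f] [LocallyOfFinitePresentation f]
    (X' : Over S') [IsAffineHom X'.hom] :
    ∃ (R : Over S) (q : Red.bc f R ⟶ X'), WeilRes.IsWeilRes f X' R q ∧ IsAffineHom R.hom ∧
      (LocallyOfFiniteType X'.hom → LocallyOfFiniteType R.hom) := by
  let H : Over S := Over.mk f
  let Y : Over S := Over.mk (X'.hom ≫ f)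
  let π : Y ⟶ H := Over.homMk X'.hom rfl
  haveI : IsFinite H.hom := ‹IsFinite f›
  haveI : Flat H.hom := ‹Flat f›
  haveI : LocallyOfFinitePresentation H.hom := ‹LocallyOfFinitePresentation f›
  haveI : IsAffineHom H.hom := inferInstance
  haveI : IsAffineHom Y.hom := inferInstanceAs (IsAffineHom (X'.hom ≫ f))
  obtain ⟨A, υ, hA, hAa, hAf, -⟩ := Groth.L25.HomScheme.exists_weil H Y
  obtain ⟨B, ω, hB, hBa, hBf, -⟩ := Groth.L25.HomScheme.exists_weil H H
  haveI := hAa
  haveI := hBa
  obtain ⟨c, hc, -⟩ := hB A (υ ≫ π)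
  obtain ⟨e, he, -⟩ := hB (𝟙_ (Over S)) (fst H _)
  let R : Over S := pullback c e
  let ι : R ⟶ A := pullback.fst c e
  have hsq : IsPullback ι.left (pullback.snd c e).left c.left e.left :=
    (IsPullback.of_hasPullback c e).map (Over.forget S)
  let y : H ⊗ R ⟶ Y := (H ◁ ι) ≫ υ
  have hyπ : y ≫ π = fst H R := by
    have e1 : (H ◁ ι) ≫ υ ≫ π = (H ◁ ι) ≫ (H ◁ c) ≫ ω := congrArg ((H ◁ ι) ≫ ·) hc.symm
    rw [← MonoidalCategory.whiskerLeft_comp_assoc, show ι ≫ c = pullback.snd c e ≫ e from pullback.condition,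
      MonoidalCategory.whiskerLeft_comp, Category.assoc] at e1
    rw [show y ≫ π = (H ◁ ι) ≫ υ ≫ π from Category.assoc _ _ _, e1]
    exact (congrArg ((H ◁ pullback.snd c e) ≫ ·) he).trans (whiskerLeft_fst _ _)
  let q : Red.bc f R ⟶ X' := Over.homMk ((sigma f R).hom ≫ y.left) (by
    show ((sigma f R).hom ≫ y.left) ≫ π.left = pullback.snd R.hom f
    rw [Category.assoc, ← Over.comp_left, hyπ, sigma_fst])
  have key : ∀ (T : Over S) (g : T ⟶ R),
      (WeilRes.restr f q T g).left = (sigma f T).hom ≫ ((H ◁ (g ≫ ι)) ≫ υ).left := by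
    intro T g
    show ((Over.pullback f).map g).left ≫ (sigma f R).hom ≫ y.left = _
    rw [← Category.assoc, sigma_natural, Category.assoc, ← Over.comp_left, MonoidalCategory.whiskerLeft_comp,
      Category.assoc]
  refine ⟨R, q, fun T => ⟨fun g g' h => ?_, fun x => ?_⟩, ?_, fun hX => ?_⟩
  · have h2 : (H ◁ (g ≫ ι)) ≫ υ = (H ◁ (g' ≫ ι)) ≫ υ := by
      ext1
      rw [← cancel_epi (sigma f T).hom, ← key, ← key, h]
    exact pullback.hom_ext ((hA T ((H ◁ (g ≫ ι)) ≫ υ)).unique rfl h2.symm) (toUnit_unique _ _)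
  · let z : H ⊗ T ⟶ Y := Over.homMk ((sigma f T).inv ≫ x.left) (by
      show ((sigma f T).inv ≫ x.left) ≫ X'.hom ≫ f = (H ⊗ T).hom
      rw [Category.assoc, Over.w_assoc x, Iso.inv_comp_eq]
      show pullback.snd T.hom f ≫ f = (sigma f T).hom ≫ (H ⊗ T).hom
      rw [← Over.w (fst H T), ← Category.assoc, sigma_fst]
      rfl)
    have hz : z ≫ π = fst H T := by
      ext1
      show ((sigma f T).inv ≫ x.left) ≫ X'.hom = (fst H T).left
      rw [Category.assoc, Over.w x, Iso.inv_comp_eq, sigma_fst]
      rfl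
    obtain ⟨a, ha, -⟩ := hA T z
    have hac : a ≫ c = toUnit T ≫ e := by
      refine (hB T (fst H T)).unique ?_ ?_
      · show (H ◁ (a ≫ c)) ≫ ω = _
        rw [MonoidalCategory.whiskerLeft_comp, Category.assoc]
        refine (congrArg ((H ◁ a) ≫ ·) hc).trans ?_
        rw [← Category.assoc]
        exact (congrArg (· ≫ π) ha).trans hz
      · show (H ◁ (toUnit T ≫ e)) ≫ ω = _
        rw [MonoidalCategory.whiskerLeft_comp, Category.assoc]
        exact (congrArg ((H ◁ toUnit T) ≫ ·) he).trans (whiskerLeft_fst _ _)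
    refine ⟨pullback.lift a (toUnit T) hac, ?_⟩
    ext1
    rw [key, pullback.lift_fst]
    show _ ≫ ((H ◁ a) ≫ υ).left = x.left
    rw [show (H ◁ a) ≫ υ = z from ha]
    exact Iso.hom_inv_id_assoc _ _
  · haveI : IsAffineHom (e.left ≫ B.hom) := by
      rw [Over.w e]; exact inferInstanceAs (IsAffineHom (𝟙 S))
    haveI : IsAffineHom e.left := IsAffineHom.of_comp e.left B.hom
    haveI : IsAffineHom ι.left := MorphismProperty.of_isPullback (P := @IsAffineHom) hsq.flip ‹_›
    rw [← Over.w ι]
    infer_instance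
  · haveI := hAf (inferInstanceAs (LocallyOfFiniteType (X'.hom ≫ f)))
    haveI : LocallyOfFiniteType (e.left ≫ B.hom) := by
      rw [Over.w e]; exact inferInstanceAs (LocallyOfFiniteType (𝟙 S))
    haveI : LocallyOfFiniteType e.left := locallyOfFiniteType_of_comp e.left B.hom
    haveI : LocallyOfFiniteType ι.left := MorphismProperty.of_isPullback (P := @LocallyOfFiniteType) hsq.flip ‹_›
    rw [← Over.w ι]
    infer_instance

end Groth.L08.WeilInsep
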