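import Groth.Agent.L08.Points
import Groth.Agent.L25.HopfFlatGen
import Groth.Agent.L25.Char.AdicClopen
import Groth.Agent.L14.Smoothing.InsepFibre
import Groth.Prelude.Def_SGA3
import Mathlib.RingTheory.HopfAlgebra.Convolution
import Mathlib.RingTheory.RingHom.FaithfullyFlat

/-!
# Faithful flatness over coideal subalgebras: adjoining unipotent generators
-/

set_option autoImplicit false
set_option linter.style.haveILetI false
set_option linter.unusedSectionVars false
set_option backward.isDefEq.respectTransparency.types false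
universe u

open TensorProduct WithConv

noncomputable section

namespace Groth.L08.WeilInsep

open Groth.L08 (pinv pinv_mul mul_pinv isHopfIdeal_of_represents)

variable {k : Type u} [Field k] {A : Type u} [CommRing A] [HopfAlgebra k A]

/-- A left coideal subalgebra. -/
def IsCoid (C : Subalgebra k A) : Prop :=
  ∀ z ∈ C, Bialgebra.comulAlgHom k A z ∈ (Algebra.TensorProduct.map (AlgHom.id k A) C.val).range

/-- An element primitive modulo a subalgebra. -/
def IsPrim (C : Subalgebra k A) (t : A) : Prop :=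
  Bialgebra.comulAlgHom k A t - 1 ⊗ₜ t ∈ (Algebra.TensorProduct.map (AlgHom.id k A) C.val).range

theorem conv_apply {R : Type u} [CommRing R] [Algebra k R] (g h : WithConv (A →ₐ[k] R)) (z : A) :
    (g * h).ofConv z = Algebra.TensorProduct.lift g.ofConv h.ofConv (fun _ _ => .all _ _)
      (Bialgebra.comulAlgHom k A z) :=
  AlgHom.convMul_apply g h z

theorem lift_right_unit {R : Type u} [CommRing R] [Algebra k R] (g : WithConv (A →ₐ[k] R)) (x : A ⊗[k] A) :
    Algebra.TensorProduct.lift g.ofConv ((Algebra.ofId k R).comp (Bialgebra.counitAlgHom k A))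
      (fun _ _ => .all _ _) x = g.ofConv (TensorProduct.rid k A ((Coalgebra.counit (R := k) (A := A)).lTensor A x)) := by
  induction x using TensorProduct.induction_on with
  | zero => simp
  | tmul a b =>
    simp [Algebra.smul_def, Algebra.ofId_apply, mul_comm]
  | add p q hp hq => simp only [map_add, hp, hq]

theorem lift_congr {R : Type u} [CommRing R] [Algebra k R] {C : Subalgebra k A} (g h h' : WithConv (A →ₐ[k] R))
    (hh : ∀ z ∈ C, h.ofConv z = h'.ofConv z) {x : A ⊗[k] A}
    (hx : x ∈ (Algebra.TensorProduct.map (AlgHom.id k A) C.val).range) :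
    Algebra.TensorProduct.lift g.ofConv h.ofConv (fun _ _ => .all _ _) x =
      Algebra.TensorProduct.lift g.ofConv h'.ofConv (fun _ _ => .all _ _) x := by
  obtain ⟨w, rfl⟩ := hx
  induction w using TensorProduct.induction_on with
  | zero => simp
  | tmul a c => simp [hh c.1 c.2]
  | add p q hp hq => simp only [map_add, hp, hq]

/-- A product only depends on the restriction of the second factor. -/
theorem conv_congr {R : Type u} [CommRing R] [Algebra k R] {C : Subalgebra k A} (hC : IsCoid C)
    (g h h' : WithConv (A →ₐ[k] R)) (hh : ∀ z ∈ C, h.ofConv z = h'.ofConv z) {z : A} (hz : z ∈ C) :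
    (g * h).ofConv z = (g * h').ofConv z := by
  rw [conv_apply, conv_apply]
  exact lift_congr g h h' hh (hC z hz)

theorem conv_prim {R : Type u} [CommRing R] [Algebra k R] {C : Subalgebra k A}
    (g h : WithConv (A →ₐ[k] R)) (hh : ∀ z ∈ C, h.ofConv z = algebraMap k R (Coalgebra.counit z))
    {t : A} (ht : IsPrim C t) :
    (g * h).ofConv t = g.ofConv t + h.ofConv t - algebraMap k R (Coalgebra.counit t) := by
  have e := lift_congr g h 1 (fun z hz => (hh z hz).trans (AlgHom.convOne_apply z).symm) ht
  rw [map_sub, map_sub, ← conv_apply, ← conv_apply, _root_.mul_one, Algebra.TensorProduct.lift_tmul,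
    Algebra.TensorProduct.lift_tmul, map_one, _root_.one_mul, _root_.one_mul, AlgHom.convOne_apply] at e
  linear_combination e

theorem conv_unit {R : Type u} [CommRing R] [Algebra k R] {C : Subalgebra k A} (hC : IsCoid C)
    (g h : WithConv (A →ₐ[k] R)) (hh : ∀ z ∈ C, h.ofConv z = algebraMap k R (Coalgebra.counit z)) {z : A}
    (hz : z ∈ C) : (g * h).ofConv z = g.ofConv z := by
  rw [conv_congr hC g h 1 (fun w hw => (hh w hw).trans (AlgHom.convOne_apply w).symm) hz, _root_.mul_one]

theorem mul_pinv_cancel_left' {R : Type u} [CommRing R] [Algebra k R] (g h : WithConv (A →ₐ[k] R)) :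
    g * (pinv g * h) = h := by
  rw [← _root_.mul_assoc, mul_pinv, _root_.one_mul]

theorem pinv_mul_cancel_left' {R : Type u} [CommRing R] [Algebra k R] (g h : WithConv (A →ₐ[k] R)) :
    pinv g * (g * h) = h := by
  rw [← _root_.mul_assoc, pinv_mul, _root_.one_mul]

variable (C : Subalgebra k A)

/-- The ideal of the subgroup fixing a subalgebra. -/
def augI : Ideal A := Ideal.span {z | z ∈ C ∧ Coalgebra.counit (R := k) z = 0}

theorem augI_iff {R : Type u} [CommRing R] [Algebra k R] (g : A →ₐ[k] R) :
    (∀ a ∈ augI C, g a = 0) ↔ ∀ z ∈ C, g z = algebraMap k R (Coalgebra.counit z) := by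
  constructor
  · intro h z hz
    have := h (z - algebraMap k A (Coalgebra.counit z)) (Ideal.subset_span ⟨sub_mem hz (C.algebraMap_mem _), by
      rw [map_sub, Bialgebra.counit_algebraMap, sub_self]⟩)
    rwa [map_sub, AlgHom.commutes, sub_eq_zero] at this
  · intro h a ha
    refine (Ideal.span_le.2 ?_ ha : a ∈ RingHom.ker g)
    rintro z ⟨hz, hz0⟩
    show g z = 0
    rw [h z hz, hz0, map_zero]

variable {C}

theorem isHopfIdeal_augI (hC : IsCoid C) : (augI C).IsHopfIdeal k := by
  refine isHopfIdeal_of_represents (P := fun R _ _ g => ∀ z ∈ C, g z = algebraMap k R (Coalgebra.counit z))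
    (fun R _ _ g => augI_iff C g) (fun R _ _ z _ => AlgHom.convOne_apply z) ?_ ?_
  · intro R _ _ g h hg hh z hz
    rw [conv_congr hC g h 1 (fun w hw => (hh w hw).trans (AlgHom.convOne_apply w).symm) hz, _root_.mul_one, hg z hz]
  · intro R _ _ g hg z hz
    have e := conv_congr hC (pinv g) g 1 (fun w hw => (hg w hw).trans (AlgHom.convOne_apply w).symm) hz
    rw [_root_.mul_one, pinv_mul] at e
    exact e.symm.trans (AlgHom.convOne_apply z)

variable (C) in
/-- The universal point of the first factor. -/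
def ptL : A →ₐ[k] A ⊗[C] A := (Algebra.TensorProduct.includeLeft : A →ₐ[C] A ⊗[C] A).restrictScalars k

variable (C) in
/-- The universal point of the second factor. -/
def ptR : A →ₐ[k] A ⊗[C] A := (Algebra.TensorProduct.includeRight : A →ₐ[C] A ⊗[C] A).restrictScalars k

theorem ptL_eq_ptR {z : A} (hz : z ∈ C) : ptL C z = ptR C z :=
  Algebra.TensorProduct.tmul_one_eq_one_tmul (R := C) (A := A) (B := A) ⟨z, hz⟩

/-- The translation isomorphism. -/
theorem exists_beta (hC : IsCoid C) :
    ∃ β : A ⊗[C] A ≃ₐ[k] A ⊗[k] (A ⧸ augI C),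
      (∀ x, β (ptL C x) = x ⊗ₜ 1) ∧
      (∀ y, β (ptR C y) = (toConv (Algebra.TensorProduct.includeLeft : A →ₐ[k] A ⊗[k] (A ⧸ augI C)) *
        toConv (Algebra.TensorProduct.includeRight.comp (Ideal.Quotient.mkₐ k (augI C)))).ofConv y) := by
  let q := Ideal.Quotient.mkₐ k (augI C)
  let iL : A →ₐ[k] A ⊗[k] (A ⧸ augI C) := Algebra.TensorProduct.includeLeft
  let iR : A →ₐ[k] A ⊗[k] (A ⧸ augI C) := Algebra.TensorProduct.includeRight.comp q
  have hiR : ∀ z ∈ C, iR z = algebraMap k _ (Coalgebra.counit z) :=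
    (augI_iff C iR).1 fun a ha => by simp [iR, q, Ideal.Quotient.eq_zero_iff_mem.2 ha]
  let p := toConv iL * toConv iR
  let fL : A →ₐ[C] A ⊗[k] (A ⧸ augI C) := Algebra.TensorProduct.includeLeft
  let fR : A →ₐ[C] A ⊗[k] (A ⧸ augI C) :=
    { p.ofConv with
      commutes' := fun c => by
        show p.ofConv c.1 = iL c.1
        exact conv_unit hC (toConv iL) (toConv iR) hiR c.2 }
  let β₀ := Algebra.TensorProduct.lift fL fR fun _ _ => Commute.all _ _
  let β : A ⊗[C] A →ₐ[k] A ⊗[k] (A ⧸ augI C) :=
    { β₀.toRingHom with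
      commutes' := fun r => by
        show β₀ (algebraMap k (A ⊗[C] A) r) = algebraMap k _ r
        rw [show algebraMap k (A ⊗[C] A) r = algebraMap k A r ⊗ₜ (1 : A) from rfl]
        show Algebra.TensorProduct.lift fL fR (fun _ _ => Commute.all _ _) _ = _
        rw [Algebra.TensorProduct.lift_tmul, map_one, _root_.mul_one]
        exact iL.commutes r }
  have hβL : β.comp (ptL C) = iL := AlgHom.ext fun x => by
    show Algebra.TensorProduct.lift fL fR (fun _ _ => Commute.all _ _) (x ⊗ₜ 1) = _
    rw [Algebra.TensorProduct.lift_tmul, map_one, _root_.mul_one]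
    rfl
  have hβR : β.comp (ptR C) = p.ofConv := AlgHom.ext fun x => by
    show Algebra.TensorProduct.lift fL fR (fun _ _ => Commute.all _ _) (1 ⊗ₜ x) = _
    rw [Algebra.TensorProduct.lift_tmul, map_one, _root_.one_mul]
    rfl
  let d := pinv (toConv (ptL C)) * toConv (ptR C)
  have hd : ∀ z ∈ C, d.ofConv z = algebraMap k (A ⊗[C] A) (Coalgebra.counit z) := fun z hz => by
    rw [conv_congr hC _ (toConv (ptR C)) (toConv (ptL C)) (fun w hw => (ptL_eq_ptR hw).symm) hz, pinv_mul]
    exact AlgHom.convOne_apply z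
  let h : (A ⧸ augI C) →ₐ[k] A ⊗[C] A := Ideal.Quotient.liftₐ (augI C) d.ofConv ((augI_iff C d.ofConv).2 hd)
  let Θ : A ⊗[k] (A ⧸ augI C) →ₐ[k] A ⊗[C] A :=
    Algebra.TensorProduct.lift (ptL C) h fun _ _ => Commute.all _ _
  have hΘL : Θ.comp iL = ptL C := AlgHom.ext fun x => by simp [Θ, iL]
  have hΘR : Θ.comp iR = d.ofConv := AlgHom.ext fun x => by
    show Θ (1 ⊗ₜ q x) = _
    rw [Algebra.TensorProduct.lift_tmul, map_one, _root_.one_mul]
    rfl
  have hΘp : Θ.comp p.ofConv = ptR C := by
    have e : (toConv (ptL C) * (pinv (toConv (ptL C)) * toConv (ptR C))).ofConv = ptR C :=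
      congrArg WithConv.ofConv (mul_pinv_cancel_left' (toConv (ptL C)) (toConv (ptR C)))
    rw [AlgHom.comp_convMul_distrib, show Θ.comp (toConv iL).ofConv = ptL C from hΘL,
      show Θ.comp (toConv iR).ofConv = d.ofConv from hΘR]
    exact e
  have hβd : β.comp d.ofConv = iR := by
    rw [AlgHom.comp_convMul_distrib,
      show toConv (β.comp (pinv (toConv (ptL C))).ofConv) = pinv (toConv iL) from by
        show toConv (β.comp ((ptL C).comp _)) = toConv (iL.comp _)
        rw [← AlgHom.comp_assoc, hβL],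
      show toConv (β.comp (toConv (ptR C)).ofConv) = p from congrArg toConv hβR]
    exact congrArg WithConv.ofConv (pinv_mul_cancel_left' (toConv iL) (toConv iR))
  have h1 : ∀ z, Θ (β z) = z := fun z => by
    induction z using TensorProduct.induction_on with
    | zero => simp
    | add a b ha hb => rw [map_add, map_add, ha, hb]
    | tmul x y =>
      have e : x ⊗ₜ[C] y = ptL C x * ptR C y := by
        show x ⊗ₜ y = (x ⊗ₜ 1) * (1 ⊗ₜ y)
        rw [Algebra.TensorProduct.tmul_mul_tmul, _root_.mul_one, _root_.one_mul]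
      rw [e, map_mul, map_mul, ← AlgHom.comp_apply β, hβL, ← AlgHom.comp_apply β (ptR C), hβR,
        ← AlgHom.comp_apply Θ, hΘL, ← AlgHom.comp_apply Θ p.ofConv, hΘp]
  have h2 : β.comp Θ = AlgHom.id k _ := by
    refine Algebra.TensorProduct.ext ?_ ?_
    · show (β.comp Θ).comp iL = _
      rw [AlgHom.comp_assoc, hΘL, hβL]
      rfl
    · refine Ideal.Quotient.algHom_ext k ?_
      show (β.comp Θ).comp iR = _
      rw [AlgHom.comp_assoc, hΘR, hβd]
      rfl
  exact ⟨AlgEquiv.ofAlgHom β Θ h2 (AlgHom.ext h1), AlgHom.congr_fun hβL, AlgHom.congr_fun hβR⟩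

/-- The subalgebra of the fixing group generated by primitive generators is a Hopf subalgebra. -/
theorem isHopfSubalgebra_adjoin [(augI C).IsHopfIdeal k] (T : Set A) (hT : ∀ t ∈ T, IsPrim C t) :
    SGA3.IsHopfSubalgebra k (A ⧸ augI C) (Algebra.adjoin k (Ideal.Quotient.mkₐ k (augI C) '' T)) := by
  let B := A ⧸ augI C
  let q := Ideal.Quotient.mkₐ k (augI C)
  let E := Algebra.adjoin k (q '' T)
  have hq : ∀ z ∈ C, q z = algebraMap k B (Coalgebra.counit z) :=
    (augI_iff C q).1 fun a ha => Ideal.Quotient.eq_zero_iff_mem.2 ha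
  refine ⟨fun b hb => ?_, fun b hb => ?_⟩
  · let R := (Algebra.TensorProduct.map E.val E.val).range
    suffices h : E ≤ R.comap (Bialgebra.comulAlgHom k B) from h hb
    refine Algebra.adjoin_le ?_
    rintro _ ⟨t, ht, rfl⟩
    let i1 : A →ₐ[k] B ⊗[k] B := Algebra.TensorProduct.includeLeft.comp q
    let i2 : A →ₐ[k] B ⊗[k] B := Algebra.TensorProduct.includeRight.comp q
    have e : Bialgebra.comulAlgHom k B (q t) = (toConv i1 * toConv i2).ofConv t := by
      rw [conv_apply]
      change Coalgebra.comul (R := k) (q t) = _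
      rw [show q t = Ideal.Quotient.mkₐ k (augI C) t from rfl]
      have e0 := (CoalgHomClass.map_comp_comul_apply
        (Bialgebra.Quotient.mkBialgHom (R := k) (augI C)) t).symm
      refine e0.trans ?_
      show TensorProduct.map q.toLinearMap q.toLinearMap (Coalgebra.comul (R := k) t) = _
      show _ = Algebra.TensorProduct.lift i1 i2 (fun _ _ => Commute.all _ _) (Coalgebra.comul (R := k) t)
      induction Coalgebra.comul (R := k) t with
      | zero => simp
      | tmul a b => simp [i1, i2]
      | add p r hp hr => simp only [map_add, hp, hr]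
    show Bialgebra.comulAlgHom k B (q t) ∈ R
    rw [e, conv_prim (toConv i1) (toConv i2) (fun z hz => by
      show (1 : B) ⊗ₜ q z = _
      rw [hq z hz]
      exact (Algebra.TensorProduct.algebraMap_apply' _).symm) (hT t ht)]
    refine sub_mem (add_mem ⟨(⟨q t, Algebra.subset_adjoin ⟨t, ht, rfl⟩⟩ : E) ⊗ₜ 1, by simp [i1]⟩
      ⟨1 ⊗ₜ (⟨q t, Algebra.subset_adjoin ⟨t, ht, rfl⟩⟩ : E), by simp [i2]⟩) (R.algebraMap_mem _)
  · suffices h : E ≤ E.comap (HopfAlgebra.antipodeAlgHom k B) from h hb
    refine Algebra.adjoin_le ?_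
    rintro _ ⟨t, ht, rfl⟩
    have e1 : HopfAlgebra.antipodeAlgHom k B (q t) = (pinv (toConv q)).ofConv t :=
      (Groth.L25.Char.bialgHom_antipode (Bialgebra.Quotient.mkBialgHom (R := k) (augI C)) t).symm
    have e2 := conv_prim (pinv (toConv q)) (toConv q) hq (hT t ht)
    rw [pinv_mul, AlgHom.convOne_apply] at e2
    show HopfAlgebra.antipodeAlgHom k B (q t) ∈ E
    rw [e1, show (pinv (toConv q)).ofConv t =
      algebraMap k B (Coalgebra.counit t) + algebraMap k B (Coalgebra.counit t) - q t by linear_combination -e2]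
    exact sub_mem (add_mem (E.algebraMap_mem _) (E.algebraMap_mem _)) (Algebra.subset_adjoin ⟨t, ht, rfl⟩)

/-- Adjoining elements primitive modulo a coideal subalgebra keeps the coideal property. -/
theorem isCoid_adjoin (hC : IsCoid C) (T : Set A) (hT : ∀ t ∈ T, IsPrim C t) :
    IsCoid (Algebra.adjoin k ((C : Set A) ∪ T)) := by
  let D := Algebra.adjoin k ((C : Set A) ∪ T)
  let R := (Algebra.TensorProduct.map (AlgHom.id k A) D.val).range
  have hle : C ≤ D := fun z hz => Algebra.subset_adjoin (Or.inl hz)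
  have hmono : (Algebra.TensorProduct.map (AlgHom.id k A) C.val).range ≤ R := by
    rintro _ ⟨w, rfl⟩
    refine ⟨Algebra.TensorProduct.map (AlgHom.id k A) (Subalgebra.inclusion hle) w, ?_⟩
    induction w using TensorProduct.induction_on with
    | zero => simp
    | tmul a c => simp
    | add p q hp hq => simp only [map_add, hp, hq]
  suffices h : D ≤ R.comap (Bialgebra.comulAlgHom k A) from fun z hz => h hz
  refine Algebra.adjoin_le ?_
  rintro z (hz | hz)
  · exact hmono (hC z hz)
  · show Bialgebra.comulAlgHom k A z ∈ R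
    rw [← sub_add_cancel (Bialgebra.comulAlgHom k A z) (1 ⊗ₜ z)]
    exact add_mem (hmono (hT z hz))
      ⟨1 ⊗ₜ (⟨z, Algebra.subset_adjoin (Or.inr hz)⟩ : D), by simp⟩

attribute [local instance] Algebra.TensorProduct.rightAlgebra in
/-- Base change of a faithfully flat algebra map. -/
theorem faithfullyFlat_lTensor {R A B D : Type u} [CommRing R] [CommRing A] [Algebra R A] [CommRing B] [Algebra R B]
    [CommRing D] [Algebra R D] {f : B →ₐ[R] D} (hf : f.toRingHom.FaithfullyFlat) :
    (Algebra.TensorProduct.map (AlgHom.id R A) f).toRingHom.FaithfullyFlat := by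
  algebraize [f.toRingHom, (Algebra.TensorProduct.lTensor (S := A) A f).toRingHom]
  haveI : Module.FaithfullyFlat B D := hf
  let e : A ⊗[R] D ≃ₐ[A ⊗[R] B] (A ⊗[R] B) ⊗[B] D :=
    { __ := (Algebra.IsPushout.cancelBaseChangeAlg _ _ _ _ _).symm,
      commutes' x := congr($(Algebra.IsPushout.cancelBaseChange_symm_comp_lTensor R B D A) x) }
  exact Module.FaithfullyFlat.of_linearEquiv _ _ e.toLinearEquiv

/-- Adjoining over a subalgebra. -/
theorem restrictScalars_adjoin {R A : Type u} [CommRing R] [CommRing A] [Algebra R A] (C : Subalgebra R A) (T : Set A) :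
    (Algebra.adjoin C T).restrictScalars R = Algebra.adjoin R ((C : Set A) ∪ T) := by
  refine le_antisymm (fun x hx => ?_) (Algebra.adjoin_le ?_)
  · rw [Subalgebra.mem_restrictScalars] at hx
    induction hx using Algebra.adjoin_induction with
    | mem t ht => exact Algebra.subset_adjoin (Or.inr ht)
    | algebraMap c => exact Algebra.subset_adjoin (Or.inl c.2)
    | add x y _ _ hx hy => exact add_mem hx hy
    | mul x y _ _ hx hy => exact mul_mem hx hy
  · rintro x (hx | hx)
    · exact (Algebra.adjoin C T).algebraMap_mem ⟨x, hx⟩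
    · exact (Algebra.subset_adjoin hx : x ∈ Algebra.adjoin C T)

/-- An injective base change of an inclusion. -/
theorem map_val_injective {R A : Type u} [CommRing R] [CommRing A] [Algebra R A] [Module.Flat R A]
    (D : Subalgebra R A) : Function.Injective (Algebra.TensorProduct.map (AlgHom.id R A) D.val) := by
  have h := Module.Flat.lTensor_preserves_injective_linearMap (M := A) D.val.toLinearMap Subtype.val_injective
  have e : (Algebra.TensorProduct.map (AlgHom.id R A) D.val).toLinearMap = D.val.toLinearMap.lTensor A :=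
    TensorProduct.ext' fun x y => rfl
  intro x y hxy
  exact h ((LinearMap.congr_fun e x).symm.trans (hxy.trans (LinearMap.congr_fun e y)))

/-- An injective map with the range of a faithfully flat one is faithfully flat. -/
theorem faithfullyFlat_of_range_eq {R P Q S : Type u} [CommRing R] [CommRing P] [Algebra R P] [CommRing Q]
    [Algebra R Q] [CommRing S] [Algebra R S] (φ : P →ₐ[R] S) (ψ : Q →ₐ[R] S) (hφ : Function.Injective φ)
    (hψ : ψ.toRingHom.FaithfullyFlat) (h : φ.range = ψ.range) : φ.toRingHom.FaithfullyFlat := by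
  have hψinj : Function.Injective ψ := RingHom.FaithfullyFlat.injective hψ
  let e := ((AlgEquiv.ofInjective φ hφ).trans (Subalgebra.equivOfEq _ _ h)).trans (AlgEquiv.ofInjective ψ hψinj).symm
  have he : ψ.comp (e : P →ₐ[R] Q) = φ := AlgHom.ext fun x => by
    have := congrArg Subtype.val ((AlgEquiv.ofInjective ψ hψinj).apply_symm_apply
      (Subalgebra.equivOfEq _ _ h (AlgEquiv.ofInjective φ hφ x)))
    exact this
  rw [← he]
  exact RingHom.FaithfullyFlat.stableUnderComposition _ _ (RingHom.FaithfullyFlat.of_bijective e.bijective) hψ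

/-- Flatness descends along faithfully flat ring maps. -/
theorem flat_of_comp_faithfullyFlat {P Q T : Type u} [CommRing P] [CommRing Q] [CommRing T] (f : P →+* Q)
    (g : Q →+* T) (h : (g.comp f).Flat) (hg : g.FaithfullyFlat) : f.Flat := by
  algebraize [f, g, g.comp f]
  exact Groth.L14.Smoothing.Insep.ringHom_flat_of_comp (R := P) (S := Q) (T := T)

/-- Descent of faithful flatness to an intermediate algebra. -/
theorem faithfullyFlat_descent {R A : Type u} [CommRing R] [CommRing A] [Algebra R A] [Module.FaithfullyFlat R A]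
    (D : Subalgebra R A)
    (hm : (Algebra.TensorProduct.map (AlgHom.id R A) D.val).toRingHom.FaithfullyFlat) :
    D.val.toRingHom.FaithfullyFlat := by
  let iD : D →+* A ⊗[R] D := (Algebra.TensorProduct.includeRight : D →ₐ[R] A ⊗[R] D).toRingHom
  have hiD : iD.FaithfullyFlat := by
    have h1 : (algebraMap D (D ⊗[R] A)).FaithfullyFlat := RingHom.faithfullyFlat_algebraMap_iff.2 inferInstance
    have h2 := RingHom.FaithfullyFlat.stableUnderComposition _ _ h1
      (RingHom.FaithfullyFlat.of_bijective (f := (Algebra.TensorProduct.comm R D A).toAlgHom.toRingHom)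
        (Algebra.TensorProduct.comm R D A).bijective)
    convert h2 using 1
    refine RingHom.ext fun x => ?_
    simp [iD, Algebra.TensorProduct.algebraMap_apply]
  let iA : A →+* A ⊗[R] A := (Algebra.TensorProduct.includeRight : A →ₐ[R] A ⊗[R] A).toRingHom
  have hiA : iA.FaithfullyFlat := by
    have h1 : (algebraMap A (A ⊗[R] A)).FaithfullyFlat := RingHom.faithfullyFlat_algebraMap_iff.2 inferInstance
    have h2 := RingHom.FaithfullyFlat.stableUnderComposition _ _ h1
      (RingHom.FaithfullyFlat.of_bijective (f := (Algebra.TensorProduct.comm R A A).toAlgHom.toRingHom)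
        (Algebra.TensorProduct.comm R A A).bijective)
    convert h2 using 1
    refine RingHom.ext fun x => ?_
    simp [iA, Algebra.TensorProduct.algebraMap_apply]
  have hcomp : iA.comp D.val.toRingHom =
      (Algebra.TensorProduct.map (AlgHom.id R A) D.val).toRingHom.comp iD := RingHom.ext fun d => by simp [iA, iD]
  have hc : (iA.comp D.val.toRingHom).FaithfullyFlat :=
    hcomp.symm ▸ RingHom.FaithfullyFlat.stableUnderComposition iD _ hiD hm
  refine RingHom.FaithfullyFlat.iff_flat_and_comap_surjective.2 ⟨?_, fun p => ?_⟩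
  · exact flat_of_comp_faithfullyFlat D.val.toRingHom iA hc.flat hiA
  · obtain ⟨r, hr⟩ := (RingHom.FaithfullyFlat.iff_flat_and_comap_surjective.1 hc).2 p
    exact ⟨PrimeSpectrum.comap iA r, by rw [← hr, PrimeSpectrum.comap_comp]; rfl⟩

set_option maxHeartbeats 1000000 in
/-- Adjoining elements primitive modulo a coideal subalgebra keeps faithful flatness. -/
theorem faithfullyFlat_adjoin (hC : IsCoid C) [Module.FaithfullyFlat C A] (T : Set A) (hT : ∀ t ∈ T, IsPrim C t) :
    (Algebra.adjoin k ((C : Set A) ∪ T)).val.toRingHom.FaithfullyFlat := by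
  haveI := isHopfIdeal_augI hC
  obtain ⟨β, hβL, hβR⟩ := exists_beta hC
  let B := A ⧸ augI C
  let q := Ideal.Quotient.mkₐ k (augI C)
  let E := Algebra.adjoin k (q '' T)
  haveI : Module.FaithfullyFlat E B := Groth.L25.HopfFlat.faithfullyFlat E (isHopfSubalgebra_adjoin T hT)
  let ψ : A ⊗[k] E →ₐ[k] A ⊗[k] B := Algebra.TensorProduct.map (AlgHom.id k A) E.val
  have hval : E.val.toRingHom.FaithfullyFlat := RingHom.faithfullyFlat_algebraMap_iff.2 ‹_›
  have hψ : ψ.toRingHom.FaithfullyFlat := faithfullyFlat_lTensor hval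
  -- the adjoined subalgebra over `C`
  let D : Subalgebra C A := Algebra.adjoin C T
  have hD : D.restrictScalars k = Algebra.adjoin k ((C : Set A) ∪ T) := restrictScalars_adjoin C T
  let m : A ⊗[C] D →ₐ[k] A ⊗[C] A := (Algebra.TensorProduct.map (AlgHom.id C A) D.val).restrictScalars k
  have hm : Function.Injective m := map_val_injective D
  let φ : A ⊗[C] D →ₐ[k] A ⊗[k] B := (β : A ⊗[C] A →ₐ[k] _).comp m
  have hφR : ∀ t ∈ T, β (ptR C t) = t ⊗ₜ 1 + 1 ⊗ₜ q t - algebraMap k _ (Coalgebra.counit t) := fun t ht => by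
    rw [hβR, conv_prim _ _ (fun z hz => ?_) (hT t ht)]
    · rfl
    · exact (augI_iff C _).1 (fun a ha => by
        show (1 : A) ⊗ₜ[k] Ideal.Quotient.mkₐ k (augI C) a = 0
        rw [show Ideal.Quotient.mkₐ k (augI C) a = 0 from Ideal.Quotient.eq_zero_iff_mem.2 ha, TensorProduct.tmul_zero]) z hz
  have hrange : φ.range = ψ.range := by
    refine le_antisymm ?_ ?_
    · rintro _ ⟨w, rfl⟩
      induction w using TensorProduct.induction_on with
      | zero => exact (map_zero φ).symm ▸ zero_mem _
      | add x y hx hy =>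
        show φ (x + y) ∈ _
        rw [map_add]; exact add_mem hx hy
      | tmul a d =>
        show β (a ⊗ₜ d.1) ∈ _
        rw [show a ⊗ₜ[C] d.1 = ptL C a * ptR C d.1 by
          show a ⊗ₜ d.1 = (a ⊗ₜ 1) * (1 ⊗ₜ d.1)
          rw [Algebra.TensorProduct.tmul_mul_tmul, _root_.mul_one, _root_.one_mul], map_mul]
        refine mul_mem ⟨a ⊗ₜ 1, (by simp [ψ] : ψ (a ⊗ₜ 1) = a ⊗ₜ (1 : B)).trans (hβL a).symm⟩ ?_
        obtain ⟨d, hd⟩ := d
        show β (ptR C d) ∈ _
        induction hd using Algebra.adjoin_induction with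
        | mem t ht =>
          rw [hφR t ht]
          exact sub_mem (add_mem ⟨t ⊗ₜ 1, by simp [ψ]⟩
            ⟨1 ⊗ₜ ⟨q t, Algebra.subset_adjoin ⟨t, ht, rfl⟩⟩, by simp [ψ]⟩) (ψ.range.algebraMap_mem _)
        | algebraMap c =>
          rw [show algebraMap C A c = c.1 from rfl, ← ptL_eq_ptR c.2, hβL]
          exact ⟨c.1 ⊗ₜ 1, by simp [ψ]⟩
        | add x y _ _ hx hy => rw [map_add, map_add]; exact add_mem hx hy
        | mul x y _ _ hx hy => rw [map_mul, map_mul]; exact mul_mem hx hy
    · rintro _ ⟨w, rfl⟩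
      induction w using TensorProduct.induction_on with
      | zero => exact (map_zero ψ).symm ▸ zero_mem _
      | add x y hx hy =>
        show ψ (x + y) ∈ _
        rw [map_add]; exact add_mem hx hy
      | tmul a e =>
        have hL : ∀ x : A, x ⊗ₜ[k] (1 : B) ∈ φ.range := fun x =>
          ⟨x ⊗ₜ 1, (by exact congrArg β rfl : φ (x ⊗ₜ 1) = β (ptL C x)).trans (hβL x)⟩
        show a ⊗ₜ e.1 ∈ _
        rw [show a ⊗ₜ[k] e.1 = (a ⊗ₜ 1) * (1 ⊗ₜ e.1) by
          rw [Algebra.TensorProduct.tmul_mul_tmul, _root_.mul_one, _root_.one_mul]]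
        refine mul_mem (hL a) ?_
        suffices h : E ≤ φ.range.comap (Algebra.TensorProduct.includeRight : B →ₐ[k] A ⊗[k] B) from h e.2
        refine Algebra.adjoin_le ?_
        rintro _ ⟨t, ht, rfl⟩
        show (1 : A) ⊗ₜ[k] q t ∈ φ.range
        have h1 : β (ptR C t) ∈ φ.range := ⟨1 ⊗ₜ ⟨t, Algebra.subset_adjoin ht⟩, rfl⟩
        rw [hφR t ht] at h1
        have h2 := add_mem (sub_mem h1 (hL t)) (φ.range.algebraMap_mem (Coalgebra.counit (R := k) t))
        convert h2 using 1
        ring
  have hmff : m.toRingHom.FaithfullyFlat := by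
    have h1 : φ.toRingHom.FaithfullyFlat := faithfullyFlat_of_range_eq φ ψ (β.injective.comp hm) hψ hrange
    have h2 := RingHom.FaithfullyFlat.stableUnderComposition _ _ h1
      (RingHom.FaithfullyFlat.of_bijective (f := (β.symm : _ →ₐ[k] A ⊗[C] A).toRingHom) β.symm.bijective)
    convert h2 using 1
    exact RingHom.ext fun x => (β.symm_apply_apply (m x)).symm
  have hDff : D.val.toRingHom.FaithfullyFlat := faithfullyFlat_descent D hmff
  rw [← hD]
  exact hDff

end Groth.L08.WeilInsep
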