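import Groth.Agent.L08.WeilInsep.Affine
import Groth.Prelude.Def_AlgGrp

/-!
# The kernel of the counit of a Weil restriction along a universal homeomorphism
-/

set_option autoImplicit false
set_option backward.isDefEq.respectTransparency.types false
set_option linter.style.haveILetI false
universe u

open CategoryTheory CategoryTheory.Limits MonoidalCategory CartesianMonoidalCategory MonObj AlgebraicGeometry

noncomputable section

namespace Groth.L08.WeilInsep

variable {S S' : Scheme.{u}} (f : S' ⟶ S)

/-- The section of a base change. -/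
abbrev dlt (T : Over S') : T ⟶ Red.bc f ((Over.map f).obj T) := (Over.mapPullbackAdj f).unit.app T

theorem dlt_fst (T : Over S') : (dlt f T).left ≫ pullback.fst ((Over.map f).obj T).hom f = 𝟙 T.left := by
  simp only [dlt, Over.mapPullbackAdj_unit_app]
  exact pullback.lift_fst _ _ _

theorem surjective_dlt [UniversallyInjective f] (T : Over S') : Surjective (dlt f T).left := by
  haveI : UniversallyInjective (pullback.fst ((Over.map f).obj T).hom f) :=
    MorphismProperty.pullback_fst _ _ ‹_›
  refine ⟨fun z => ⟨pullback.fst ((Over.map f).obj T).hom f z,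
    (pullback.fst ((Over.map f).obj T).hom f).injective ?_⟩⟩
  rw [← Scheme.Hom.comp_apply, dlt_fst]
  simp

/-- An affine open neighbourhood as an object. -/
abbrev opn {G' : Over S'} (U : G'.left.Opens) : Over S' := Over.mk (U.ι ≫ G'.hom)

/-- The inclusion of an open. -/
abbrev inc {G' : Over S'} (U : G'.left.Opens) : opn U ⟶ G' := Over.homMk U.ι

instance mono_inc {G' : Over S'} (U : G'.left.Opens) : Mono (inc U) :=
  haveI : Mono (inc U).left := inferInstanceAs (Mono U.ι)
  Over.mono_of_mono_left _

theorem exists_lift_opn {G' T : Over S'} (U : G'.left.Opens) (x : T ⟶ G')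
    (h : Set.range x.left ⊆ (U : Set G'.left)) : ∃ x' : T ⟶ opn U, x' ≫ inc U = x := by
  refine ⟨Over.homMk (IsOpenImmersion.lift U.ι x.left (by rw [Scheme.Opens.range_ι]; exact h)) ?_, ?_⟩
  · show IsOpenImmersion.lift U.ι x.left _ ≫ U.ι ≫ G'.hom = T.hom
    rw [← Category.assoc, IsOpenImmersion.lift_fac, Over.w x]
  · ext1
    exact IsOpenImmersion.lift_fac _ _ _

theorem range_subset_of_dlt [UniversallyInjective f] {G' T : Over S'} [GrpObj G'] (U : G'.left.Opens)
    (hU : Set.range η[G'].left ⊆ (U : Set G'.left)) (x : Red.bc f ((Over.map f).obj T) ⟶ G')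
    (h : dlt f T ≫ x = 1) : Set.range x.left ⊆ (U : Set G'.left) := by
  rintro _ ⟨z, rfl⟩
  obtain ⟨w, rfl⟩ := (surjective_dlt f T).1 z
  refine hU ⟨(toUnit T).left w, ?_⟩
  have e : (dlt f T ≫ x).left = (toUnit T ≫ η[G']).left := by rw [h, Hom.one_def]
  rw [← Scheme.Hom.comp_apply, ← Scheme.Hom.comp_apply, ← Over.comp_left, ← Over.comp_left, e]

/-- The kernel of the counit only depends on an affine neighbourhood of the unit. -/
theorem isAffineHom_kernel [IsFinite f] [Flat f] [LocallyOfFinitePresentation f] [UniversallyInjective f]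
    {G' : Over S'} [GrpObj G'] (U : G'.left.Opens) [IsAffineHom (U.ι ≫ G'.hom)]
    (hU : Set.range η[G'].left ⊆ (U : Set G'.left))
    {R : Over S} {q : Red.bc f R ⟶ G'} (hR : WeilRes.IsWeilRes f G' R q)
    {K : Over S'} (iK : K ⟶ Red.bc f R) (hK : AlgGrp.IsKernel iK q) :
    IsAffineHom K.hom ∧ (LocallyOfFiniteType G'.hom → LocallyOfFiniteType K.hom) := by
  haveI : IsAffineHom (opn U).hom := ‹IsAffineHom (U.ι ≫ G'.hom)›
  obtain ⟨RU, qU, hRU, hRUa, hRUf⟩ := exists_isWeilRes_affine f (opn U)
  let adj := Over.mapPullbackAdj f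
  let F := Over.pullback f
  obtain ⟨eU, heU⟩ := exists_lift_opn U η[G'] hU
  let K' := pullback qU eU
  let φ : RU ⟶ R := hR.lift RU (qU ≫ inc U)
  have hφ : F.map φ ≫ q = qU ≫ inc U := hR.restr_lift RU _
  obtain ⟨κ, hκ, -⟩ := hK.exists_lift (pullback.fst qU eU ≫ F.map φ) (toUnit K') (by
    rw [Category.assoc, hφ, ← Category.assoc, pullback.condition, Category.assoc, heU,
      toUnit_unique (pullback.snd qU eU) (toUnit K')])
  let g : (Over.map f).obj K ⟶ R := (adj.homEquiv K R).symm iK
  have hg : dlt f K ≫ F.map g = iK :=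
    (adj.homEquiv_unit (X := K) (Y := R) (f := g)).symm.trans ((adj.homEquiv K R).apply_symm_apply iK)
  let x := F.map g ≫ q
  have hx : dlt f K ≫ x = 1 := by
    rw [← Category.assoc, hg, hK.w, Hom.one_def]
  obtain ⟨x', hx'⟩ := exists_lift_opn U x (range_subset_of_dlt f U hU x hx)
  let g' : (Over.map f).obj K ⟶ RU := hRU.lift _ x'
  have hg' : F.map g' ≫ qU = x' := hRU.restr_lift _ _
  let κ' : K ⟶ K' := pullback.lift (dlt f K ≫ F.map g') (toUnit K) (by
    rw [← cancel_mono (inc U), Category.assoc, Category.assoc, Category.assoc, ← Category.assoc (F.map g'),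
      hg', hx', hx, heU, Hom.one_def])
  have hgφ : g' ≫ φ = g := (hR _).1 (show F.map (g' ≫ φ) ≫ q = F.map g ≫ q by
    rw [F.map_comp, Category.assoc, hφ, ← Category.assoc, hg', hx'])
  have h1 : κ' ≫ κ = 𝟙 K := by
    refine hK.hom_ext ?_ (toUnit_unique _ _)
    rw [Category.assoc, hκ, pullback.lift_fst_assoc, Category.assoc, ← F.map_comp, hgφ, hg, Category.id_comp]
  have h2 : κ ≫ κ' = 𝟙 K' := by
    refine pullback.hom_ext ?_ (toUnit_unique _ _)
    rw [Category.assoc, pullback.lift_fst, Category.id_comp]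
    let h : (Over.map f).obj K' ⟶ RU := (adj.homEquiv K' RU).symm (pullback.fst qU eU)
    have hh : dlt f K' ≫ F.map h = pullback.fst qU eU :=
      (adj.homEquiv_unit (X := K') (Y := RU) (f := h)).symm.trans ((adj.homEquiv K' RU).apply_symm_apply _)
    have e1 : (Over.map f).map κ ≫ g = h ≫ φ := by
      rw [← adj.homEquiv_naturality_left_symm, hκ, adj.homEquiv_naturality_right_symm]
    have e2 : (Over.map f).map κ ≫ g' = h := (hRU _).1 (show F.map ((Over.map f).map κ ≫ g') ≫ qU = F.map h ≫ qU by
      rw [← cancel_mono (inc U), F.map_comp, Category.assoc, Category.assoc, ← Category.assoc (F.map g'), hg',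
        hx', Category.assoc, ← hφ, ← F.map_comp_assoc, ← F.map_comp_assoc, e1])
    rw [← Category.assoc, show κ ≫ dlt f K = dlt f K' ≫ F.map ((Over.map f).map κ) from adj.unit.naturality κ,
      Category.assoc, ← F.map_comp, e2, hh]
  haveI : IsIso κ' := ⟨κ, h1, h2⟩
  haveI : IsIso κ'.left := inferInstanceAs (IsIso ((Over.forget S').map κ'))
  have hsq : IsPullback (pullback.fst qU eU).left (pullback.snd qU eU).left qU.left eU.left :=
    (IsPullback.of_hasPullback qU eU).map (Over.forget S')
  haveI := hRUa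
  haveI : IsAffineHom (pullback.snd RU.hom f) := MorphismProperty.pullback_snd _ _ hRUa
  haveI : IsAffineHom (Red.bc f RU).hom := inferInstanceAs (IsAffineHom (pullback.snd RU.hom f))
  refine ⟨?_, fun hG => ?_⟩
  · haveI : IsAffineHom (eU.left ≫ (opn U).hom) := by
      rw [Over.w eU]; exact inferInstanceAs (IsAffineHom (𝟙 S'))
    haveI : IsAffineHom eU.left := IsAffineHom.of_comp eU.left (opn U).hom
    haveI : IsAffineHom (pullback.fst qU eU).left :=
      MorphismProperty.of_isPullback (P := @IsAffineHom) hsq.flip ‹_›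
    rw [← Over.w κ', ← Over.w (pullback.fst qU eU)]
    infer_instance
  · haveI : LocallyOfFiniteType (opn U).hom := inferInstanceAs (LocallyOfFiniteType (U.ι ≫ G'.hom))
    haveI := hRUf ‹_›
    haveI : LocallyOfFiniteType (Red.bc f RU).hom :=
      inferInstanceAs (LocallyOfFiniteType (pullback.snd RU.hom f))
    haveI : LocallyOfFiniteType (eU.left ≫ (opn U).hom) := by
      rw [Over.w eU]; exact inferInstanceAs (LocallyOfFiniteType (𝟙 S'))
    haveI : LocallyOfFiniteType eU.left := locallyOfFiniteType_of_comp eU.left (opn U).hom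
    haveI : LocallyOfFiniteType (pullback.fst qU eU).left :=
      MorphismProperty.of_isPullback (P := @LocallyOfFiniteType) hsq.flip ‹_›
    rw [← Over.w κ', ← Over.w (pullback.fst qU eU)]
    infer_instance

end Groth.L08.WeilInsep
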