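import Groth.Agent.L08.WeilInsep.Torsion
import Groth.Agent.L13.WeilRes.Insep
import Groth.Agent.L13.WeilRes.Main
import Groth.Agent.L05.CurveNorm.Scheme
import Mathlib.RingTheory.Smooth.Basic
import Mathlib.RingTheory.TensorProduct.Quotient

/-!
# Points of the kernel of the counit of a purely inseparable Weil restriction
-/

set_option autoImplicit false
set_option backward.isDefEq.respectTransparency.types false
set_option linter.style.haveILetI false
set_option linter.unusedSectionVars false
universe u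

open CategoryTheory CategoryTheory.Limits MonoidalCategory CartesianMonoidalCategory MonObj AlgebraicGeometry
open Groth.L13.WeilRes (specOver specHom specHom_comp specHom_bijective bcIso map_bcIso mulMap mulMap_map)
open TensorProduct

noncomputable section

namespace Groth.L08.WeilInsep

variable (k k' : Type u) [Field k] [Field k'] [Algebra k k'] [Module.Finite k k'] [IsPurelyInseparable k k']

/-- The morphism of spectra of the extension. -/
abbrev fe : Spec (CommRingCat.of k') ⟶ Spec (CommRingCat.of k) := Spec.map (CommRingCat.ofHom (algebraMap k k'))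

theorem fe_props : UniversallyInjective (fe k k') ∧ IsFinite (fe k k') ∧ Flat (fe k k') ∧ LocallyOfFinitePresentation (fe k k') := by
  haveI : Flat (fe k k') := (HasRingHomProperty.Spec_iff (P := @Flat)).2 (RingHom.flat_algebraMap_iff.2 inferInstance)
  haveI : IsFinite (fe k k') := (IsFinite.SpecMap_iff _).2 (RingHom.finite_algebraMap.2 inferInstance)
  exact ⟨Groth.L05.CurveNorm.universallyInjective_ext k k', inferInstance, inferInstance, inferInstance⟩

theorem homEquiv_mul {S S' : Scheme.{u}} (t : S' ⟶ S) {R : Over S} [GrpObj R] {T : Over S'}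
    (g h : (Over.map t).obj T ⟶ R) :
    ((Over.mapPullbackAdj t).homEquiv T R) (g * h) =
      ((Over.mapPullbackAdj t).homEquiv T R) g * ((Over.mapPullbackAdj t).homEquiv T R) h := by
  simp only [Adjunction.homEquiv_unit, Functor.map_mul, MonObj.comp_mul]

theorem homEquiv_one {S S' : Scheme.{u}} (t : S' ⟶ S) {R : Over S} [GrpObj R] {T : Over S'} :
    ((Over.mapPullbackAdj t).homEquiv T R) 1 = 1 := by
  simp only [Adjunction.homEquiv_unit, Functor.map_one, MonObj.comp_one]

theorem homEquiv_pow {S S' : Scheme.{u}} (t : S' ⟶ S) {R : Over S} [GrpObj R] {T : Over S'}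
    (g : (Over.map t).obj T ⟶ R) (n : ℕ) :
    ((Over.mapPullbackAdj t).homEquiv T R) (g ^ n) = ((Over.mapPullbackAdj t).homEquiv T R) g ^ n := by
  induction n with
  | zero => simp only [pow_zero, homEquiv_one]
  | succ n ih => simp only [pow_succ, homEquiv_mul, ih]

section Coordinates

variable (C : Type u) [CommRing C] [Algebra k' C] [Algebra k C] [IsScalarTower k k' C]

/-- A test algebra over the small field. -/
def theta : (Over.map (fe k k')).obj (specOver k' C) ≅ specOver k C :=
  Over.isoMk (Iso.refl _) (by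
    show 𝟙 _ ≫ Spec.map _ = Spec.map _ ≫ Spec.map _
    rw [Category.id_comp, ← Spec.map_comp, ← CommRingCat.ofHom_comp, ← IsScalarTower.algebraMap_eq])

/-- The base change of a test algebra. -/
def beta : Red.bc (fe k k') ((Over.map (fe k k')).obj (specOver k' C)) ≅ specOver k' (k' ⊗[k] C) :=
  (Over.pullback (fe k k')).mapIso (theta k k' C) ≪≫ bcIso k k' C

theorem mul_beta : specHom (mulMap k k' C) ≫ (beta k k' C).inv = dlt (fe k k') (specOver k' C) := by
  ext1
  apply pullback.hom_ext
  · show ((specHom (mulMap k k' C)).left ≫ (bcIso k k' C).inv.left ≫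
      ((Over.pullback (fe k k')).map (theta k k' C).inv).left) ≫ pullback.fst _ _ =
      (dlt (fe k k') (specOver k' C)).left ≫ pullback.fst _ _
    rw [Category.assoc, Category.assoc,
      show ((Over.pullback (fe k k')).map (theta k k' C).inv).left ≫ pullback.fst _ _ =
        pullback.fst _ _ ≫ (theta k k' C).inv.left from pullback.lift_fst _ _ _,
      dlt_fst]
    show _ ≫ _ ≫ pullback.fst _ _ ≫ 𝟙 _ = 𝟙 _
    rw [Category.comp_id, Groth.L13.WeilRes.bcIso_inv_fst]
    refine ((Spec.map_comp _ _).symm.trans ?_).trans (Spec.map_id _)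
    congr 1
    ext c
    show mulMap k k' C (1 ⊗ₜ c) = c
    rw [Groth.L13.WeilRes.mulMap_tmul, map_one, _root_.one_mul]
  · exact (Over.w (specHom (mulMap k k' C) ≫ (beta k k' C).inv)).trans (Over.w (dlt (fe k k') (specOver k' C))).symm

variable {C} {D : Type u} [CommRing D] [Algebra k' D] [Algebra k D] [IsScalarTower k k' D]

theorem beta_natural (χ : C →ₐ[k'] D) :
    (Over.pullback (fe k k')).map ((Over.map (fe k k')).map (specHom χ)) ≫ (beta k k' C).hom =
      (beta k k' D).hom ≫ specHom (Algebra.TensorProduct.map (AlgHom.id k' k') (χ.restrictScalars k)) := by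
  have e : (Over.map (fe k k')).map (specHom χ) ≫ (theta k k' C).hom =
      (theta k k' D).hom ≫ specHom (χ.restrictScalars k) := by
    ext1
    show Spec.map _ ≫ 𝟙 _ = 𝟙 _ ≫ Spec.map _
    rw [Category.comp_id, Category.id_comp]
    rfl
  show _ ≫ (Over.pullback (fe k k')).map _ ≫ (bcIso k k' C).hom = ((Over.pullback (fe k k')).map _ ≫ (bcIso k k' D).hom) ≫ _
  rw [Category.assoc, ← map_bcIso, ← Category.assoc, ← Category.assoc, ← Functor.map_comp, ← Functor.map_comp, e]

end Coordinates

variable {k k'} {G' : Over (Spec (CommRingCat.of k'))} [GrpObj G']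
  {R : Over (Spec (CommRingCat.of k))} [GrpObj R] {q : Red.bc (fe k k') R ⟶ G'} [IsMonHom q]
  (hR : WeilRes.IsWeilRes (fe k k') G' R q)
  {K : Over (Spec (CommRingCat.of k'))} [GrpObj K] (iK : K ⟶ Red.bc (fe k k') R) [IsMonHom iK]
  (hK : AlgGrp.IsKernel iK q)

include hK in
theorem mono_iK : Mono iK := by
  haveI : Mono (η[G'] : 𝟙_ _ ⟶ G') := ⟨fun a b _ => toUnit_unique a b⟩
  exact ⟨fun a b e => hK.hom_ext e (toUnit_unique _ _)⟩

variable {U : G'.left.Opens} {B : Type u} [CommRing B] [Algebra k' B] (a : opn U ≅ specOver k' B)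
  (hU : Set.range η[G'].left ⊆ (U : Set G'.left))

omit [IsMonHom iK] [GrpObj K] in
/-- The point of the group attached to a point of the kernel. -/
def xOf (C : Type u) [CommRing C] [Algebra k' C] [Algebra k C] [IsScalarTower k k' C]
    (t : specOver k' C ⟶ K) : specOver k' (k' ⊗[k] C) ⟶ G' :=
  (beta k k' C).inv ≫ WeilRes.restr (fe k k') q _ (((Over.mapPullbackAdj (fe k k')).homEquiv _ R).symm (t ≫ iK))

include hK in
theorem mul_xOf (C : Type u) [CommRing C] [Algebra k' C] [Algebra k C] [IsScalarTower k k' C]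
    (t : specOver k' C ⟶ K) : specHom (mulMap k k' C) ≫ xOf (q := q) iK C t = 1 := by
  rw [xOf, ← Category.assoc, mul_beta, WeilRes.restr_apply, ← Category.assoc, ← Adjunction.homEquiv_unit,
    Equiv.apply_symm_apply, Category.assoc, hK.w, Hom.one_def, ← Category.assoc,
    toUnit_unique (t ≫ toUnit K) (toUnit _)]

include hR hK in
theorem xOf_injective (C : Type u) [CommRing C] [Algebra k' C] [Algebra k C] [IsScalarTower k k' C] :
    Function.Injective (xOf (q := q) iK C) := by
  intro t t' h
  rw [xOf, xOf, cancel_epi] at h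
  haveI := mono_iK iK hK
  exact (cancel_mono iK).1 (((Over.mapPullbackAdj (fe k k')).homEquiv _ R).symm.injective ((hR _).1 h))

omit [GrpObj R] [IsMonHom q] [GrpObj K] [IsMonHom iK] [GrpObj G'] in
theorem xOf_natural {C D : Type u} [CommRing C] [Algebra k' C] [Algebra k C] [IsScalarTower k k' C]
    [CommRing D] [Algebra k' D] [Algebra k D] [IsScalarTower k k' D] (χ : C →ₐ[k'] D) (t : specOver k' C ⟶ K) :
    xOf (q := q) iK D (specHom χ ≫ t) =
      specHom (Algebra.TensorProduct.map (AlgHom.id k' k') (χ.restrictScalars k)) ≫ xOf (q := q) iK C t := by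
  rw [xOf, xOf, Category.assoc, Adjunction.homEquiv_naturality_left_symm, WeilRes.restr_comp,
    Iso.inv_comp_eq, ← Category.assoc (beta k k' D).hom, ← beta_natural, Category.assoc, Iso.hom_inv_id_assoc]

omit [GrpObj G'] [IsMonHom q] in
theorem xOf_pow [GrpObj G'] [IsMonHom q] (C : Type u) [CommRing C] [Algebra k' C] [Algebra k C]
    [IsScalarTower k k' C] (t : specOver k' C ⟶ K) (n : ℕ) :
    xOf (q := q) iK C (t ^ n) = xOf (q := q) iK C t ^ n := by
  have e : (t ^ n) ≫ iK = (t ≫ iK) ^ n := MonObj.pow_comp t n iK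
  have e2 : ((Over.mapPullbackAdj (fe k k')).homEquiv _ R).symm ((t ≫ iK) ^ n) =
      ((Over.mapPullbackAdj (fe k k')).homEquiv _ R).symm (t ≫ iK) ^ n := by
    apply ((Over.mapPullbackAdj (fe k k')).homEquiv _ R).injective
    rw [homEquiv_pow, Equiv.apply_symm_apply, Equiv.apply_symm_apply]
  rw [xOf, xOf, e, e2, ← WeilRes.restrMonoidHom_apply, map_pow, WeilRes.restrMonoidHom_apply,
    MonObj.comp_pow]

theorem xOf_one (C : Type u) [CommRing C] [Algebra k' C] [Algebra k C] [IsScalarTower k k' C] :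
    xOf (q := q) iK C 1 = 1 := by
  simpa using xOf_pow (q := q) iK C 1 0

include hR hK a hU in
/-- The kernel has no torsion prime to the characteristic over any algebra. -/
theorem eq_one_of_pow (C : Type u) [CommRing C] [Algebra k' C] (t : specOver k' C ⟶ K) {n : ℕ}
    (hn : IsUnit (n : C)) (ht : t ^ n = 1) : t = 1 := by
  letI : Algebra k C := ((algebraMap k' C).comp (algebraMap k k')).toAlgebra
  haveI : IsScalarTower k k' C := IsScalarTower.of_algebraMap_eq fun _ => rfl
  apply xOf_injective hR iK hK C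
  rw [xOf_one]
  refine eq_one_of_pow_eq_one a hU (mulMap k k' C) (Groth.L13.WeilRes.mulMap_surjective k k' C)
    (Groth.L13.WeilRes.isNilpotent_ker_mulMap k k' C) _ (mul_xOf iK hK C t) ?_ (n := n) ?_
  · simpa using hn.map (Algebra.TensorProduct.includeRight : C →ₐ[k] k' ⊗[k] C)
  · rw [← xOf_pow, ht, xOf_one]

include hR hK a hU in
/-- For formally smooth coordinates points of the kernel lift along all surjections. -/
theorem exists_lift_point [Algebra.FormallySmooth k' B] {C D : Type u} [CommRing C] [Algebra k' C]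
    [CommRing D] [Algebra k' D] (χ : C →ₐ[k'] D) (hχ : Function.Surjective χ) (t₀ : specOver k' D ⟶ K) :
    ∃ t : specOver k' C ⟶ K, specHom χ ≫ t = t₀ := by
  letI : Algebra k C := ((algebraMap k' C).comp (algebraMap k k')).toAlgebra
  haveI : IsScalarTower k k' C := IsScalarTower.of_algebraMap_eq fun _ => rfl
  letI : Algebra k D := ((algebraMap k' D).comp (algebraMap k k')).toAlgebra
  haveI : IsScalarTower k k' D := IsScalarTower.of_algebraMap_eq fun _ => rfl
  have nilC := Groth.L13.WeilRes.isNilpotent_ker_mulMap k k' C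
  have nilD := Groth.L13.WeilRes.isNilpotent_ker_mulMap k k' D
  have hnil : ∀ (E : Type u) [CommRing E] (I : Ideal E), IsNilpotent I → ∀ r ∈ I, IsNilpotent r := by
    rintro E _ I ⟨m, hm⟩ r hr
    exact ⟨m, by simpa [hm] using Ideal.pow_mem_pow hr m⟩
  obtain ⟨eC, heC⟩ := exists_one a hU C
  obtain ⟨eD, heD⟩ := exists_one a hU D
  obtain ⟨φ₀, hφ₀⟩ := exists_pt_of_reduction a hU (mulMap k k' D) (Groth.L13.WeilRes.mulMap_surjective k k' D)
    (fun r hr => hnil _ _ nilD r hr) _ (mul_xOf iK hK D t₀)
  have hμ₀ : (mulMap k k' D).comp φ₀ = eD := pt_injective a (by rw [← comp_pt, hφ₀, mul_xOf iK hK, heD])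
  have hχe : χ.comp eC = eD := pt_injective a (by rw [← comp_pt, heC, MonObj.comp_one, heD])
  let mχ := Algebra.TensorProduct.map (AlgHom.id k' k') (χ.restrictScalars k)
  let π := mχ.prod (mulMap k k' C)
  have hmem : ∀ b, (φ₀.prod eC) b ∈ π.range := by
    intro b
    obtain ⟨z, hz⟩ := Algebra.TensorProduct.map_surjective (AlgHom.id k k') (χ.restrictScalars k)
      Function.surjective_id hχ (φ₀ b)
    refine ⟨z + 1 ⊗ₜ (eC b - mulMap k k' C z), Prod.ext ?_ ?_⟩
    · show mχ (z + _) = φ₀ b
      have hz' : mχ z = φ₀ b := hz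
      have e : χ (mulMap k k' C z) = χ (eC b) := by
        rw [mulMap_map, show Algebra.TensorProduct.map (AlgHom.id k' k') (χ.restrictScalars k) z = φ₀ b from hz',
          ← AlgHom.comp_apply, hμ₀, ← hχe, AlgHom.comp_apply]
      rw [map_add, hz', Algebra.TensorProduct.map_tmul, AlgHom.restrictScalars_apply, map_sub, e, sub_self,
        TensorProduct.tmul_zero, add_zero]
    · show mulMap k k' C (z + _) = eC b
      rw [map_add, Groth.L13.WeilRes.mulMap_tmul, map_one, _root_.one_mul, add_sub_cancel]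
  have hker : IsNilpotent (RingHom.ker (π.rangeRestrict : k' ⊗[k] C →+* π.range)) := by
    obtain ⟨m, hm⟩ := nilC
    refine ⟨m, le_bot_iff.1 (le_trans (Ideal.pow_right_mono (fun z hz => ?_) m) hm.le)⟩
    exact congrArg Prod.snd (congrArg Subtype.val hz)
  let φ := Algebra.FormallySmooth.liftOfSurjective ((φ₀.prod eC).codRestrict π.range hmem) π.rangeRestrict
    π.rangeRestrict_surjective hker
  have hφ : ∀ b, π (φ b) = (φ₀ b, eC b) := fun b => congrArg Subtype.val (AlgHom.congr_fun
    (Algebra.FormallySmooth.comp_liftOfSurjective ((φ₀.prod eC).codRestrict π.range hmem) π.rangeRestrict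
      π.rangeRestrict_surjective hker) b)
  let x := (beta k k' C).hom ≫ pt a φ
  let g := hR.lift _ x
  obtain ⟨t, ht, -⟩ := hK.exists_lift ((Over.mapPullbackAdj (fe k k')).homEquiv (specOver k' C) R g) (toUnit _) (by
    rw [Adjunction.homEquiv_unit, Category.assoc, ← WeilRes.restr_apply, WeilRes.IsWeilRes.restr_lift]
    show dlt (fe k k') (specOver k' C) ≫ (beta k k' C).hom ≫ pt a φ = _
    rw [← mul_beta, Category.assoc, Iso.inv_hom_id_assoc, comp_pt,
      show (mulMap k k' C).comp φ = eC from AlgHom.ext fun b => congrArg Prod.snd (hφ b), heC, Hom.one_def])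
  refine ⟨t, xOf_injective hR iK hK D ?_⟩
  rw [xOf_natural, ← hφ₀]
  show _ ≫ (beta k k' C).inv ≫ _ = _
  rw [ht, Equiv.symm_apply_apply, WeilRes.IsWeilRes.restr_lift, Iso.inv_hom_id_assoc, comp_pt]
  exact congrArg (pt a) (AlgHom.ext fun b => congrArg Prod.fst (hφ b))

end Groth.L08.WeilInsep

namespace Groth.L08.WeilInsep

/-- A morphism out of a base change which is multiplicative on base changed points is a homomorphism. -/
theorem isMonHom_of_mul {S S' : Scheme.{u}} {t : S' ⟶ S} {R : Over S} [GrpObj R] {G' : Over S'} [GrpObj G']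
    (q : Red.bc t R ⟶ G')
    (h : ∀ (T : Over S) (g g' : T ⟶ R), (Over.pullback t).map (g * g') ≫ q =
      ((Over.pullback t).map g ≫ q) * ((Over.pullback t).map g' ≫ q)) : IsMonHom q := by
  let F := Over.pullback t
  let l : F.obj (R ⊗ R) ⟶ Red.bc t R ⊗ Red.bc t R := lift (F.map (fst R R)) (F.map (snd R R))
  haveI : IsIso l := inferInstanceAs (IsIso (CartesianMonoidalCategory.prodComparison F R R))
  have hm : μ[Red.bc t R] ≫ q = (q ⊗ₘ q) ≫ μ[G'] := by
    refine (cancel_epi l).1 ?_
    have e := h (R ⊗ R) (fst R R) (snd R R)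
    rw [Functor.map_mul, Hom.mul_def, Hom.mul_def] at e
    rw [← Category.assoc, ← Category.assoc, lift_map]
    exact e
  refine ⟨?_, hm⟩
  have h0 := h (𝟙_ _) 1 1
  rw [_root_.one_mul, Functor.map_one] at h0
  have h1 : (1 : F.obj (𝟙_ _) ⟶ Red.bc t R) ≫ q = 1 := left_eq_mul.1 h0
  haveI : IsIso (toUnit (F.obj (𝟙_ (Over S)))) := by
    rw [toUnit_unique (toUnit (F.obj (𝟙_ (Over S)))) (Functor.Monoidal.εIso F).inv]
    infer_instance
  refine (cancel_epi (toUnit (F.obj (𝟙_ (Over S))))).1 ?_
  rw [← Category.assoc, ← Hom.one_def, h1, Hom.one_def]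

end Groth.L08.WeilInsep

namespace Groth.L08.WeilInsep

variable {k k' : Type u} [Field k] [Field k'] [Algebra k k'] [Module.Finite k k'] [IsPurelyInseparable k k']
  {G' : Over (Spec (CommRingCat.of k'))} [GrpObj G']
  {R : Over (Spec (CommRingCat.of k))} [GrpObj R] {q : Red.bc (fe k k') R ⟶ G'} [IsMonHom q]
  (hR : WeilRes.IsWeilRes (fe k k') G' R q)
  {K : Over (Spec (CommRingCat.of k'))} [GrpObj K] (iK : K ⟶ Red.bc (fe k k') R) [IsMonHom iK]
  (hK : AlgGrp.IsKernel iK q)
  {U : G'.left.Opens} {B : Type u} [CommRing B] [Algebra k' B] (a : opn U ≅ specOver k' B)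
  (hU : Set.range η[G'].left ⊆ (U : Set G'.left))

include hR hK a hU in
/-- Points of the kernel are killed by an integer prime to every non-zero integer of the field. -/
theorem exists_killing (Ω : Type u) [Field Ω] [Algebra k' Ω] (t : specOver k' Ω ⟶ K) :
    ∃ N : ℕ, t ^ N = 1 ∧ ∀ n : ℕ, (n : Ω) ≠ 0 → Nat.Coprime n N := by
  letI : Algebra k Ω := ((algebraMap k' Ω).comp (algebraMap k k')).toAlgebra
  haveI : IsScalarTower k k' Ω := IsScalarTower.of_algebraMap_eq fun _ => rfl
  let μK := RingHom.ker (mulMap k k' Ω : k' ⊗[k] Ω →+* Ω)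
  obtain ⟨m, hm⟩ := Groth.L13.WeilRes.isNilpotent_ker_mulMap k k' Ω
  have hs := Groth.L13.WeilRes.mulMap_surjective k k' Ω
  rcases CharP.exists' k with h0 | ⟨p, hp, hcp⟩
  · haveI := h0
    haveI : Algebra.IsSeparable k k' := Algebra.IsSeparable.of_integral k k'
    refine ⟨1, ?_, fun n _ => Nat.coprime_one_right n⟩
    rw [pow_one]
    apply xOf_injective hR iK hK Ω
    rw [xOf_one]
    obtain ⟨φ, hφ⟩ := exists_pt_of_reduction a hU (mulMap k k' Ω) hs (fun r hr => ⟨m, by
      have := Ideal.pow_mem_pow (show r ∈ μK from hr) m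
      rwa [hm, Ideal.zero_eq_bot, Ideal.mem_bot] at this⟩) _ (mul_xOf iK hK Ω t)
    obtain ⟨e, he⟩ := exists_one a hU (k' ⊗[k] Ω)
    have hinj : Function.Injective (mulMap k k' Ω) := by
      intro z w hzw
      have hsurj := IsPurelyInseparable.surjective_algebraMap_of_isSeparable k k'
      have key : ∀ z : k' ⊗[k] Ω, z = 1 ⊗ₜ mulMap k k' Ω z := fun z => by
        induction z using TensorProduct.induction_on with
        | zero => simp
        | tmul b c =>
          obtain ⟨b, rfl⟩ := hsurj b
          rw [Groth.L13.WeilRes.mulMap_tmul, ← IsScalarTower.algebraMap_apply, ← Algebra.smul_def,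
            TensorProduct.tmul_smul, TensorProduct.smul_tmul', Algebra.smul_def, _root_.mul_one]
        | add z w hz hw => rw [map_add, TensorProduct.tmul_add, ← hz, ← hw]
      rw [key z, key w, hzw]
    rw [← hφ, ← he]
    refine congrArg (pt a) (AlgHom.ext fun b => hinj (AlgHom.congr_fun
      (pt_injective a (a₁ := (mulMap k k' Ω).comp φ) (a₂ := (mulMap k k' Ω).comp e) ?_) b))
    rw [← comp_pt, ← comp_pt, hφ, he, mul_xOf iK hK, MonObj.comp_one]
  · haveI := hcp
    refine ⟨p ^ m, ?_, fun n hn => ?_⟩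
    · apply xOf_injective hR iK hK Ω
      rw [xOf_pow, xOf_one]
      exact pow_eq_one_of_reduction a hU (mulMap k k' Ω) hs (by rw [hm, Ideal.zero_eq_bot]) _ (mul_xOf iK hK Ω t)
        (by rw [← map_natCast (algebraMap k (k' ⊗[k] Ω)), CharP.cast_eq_zero, map_zero])
    · refine Nat.Coprime.pow_right _ (Nat.Coprime.symm ((Nat.Prime.coprime_iff_not_dvd hp.out).2 fun hd => hn ?_))
      rw [← map_natCast (algebraMap k Ω), (CharP.cast_eq_zero_iff k p n).2 hd, map_zero]

end Groth.L08.WeilInsep
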