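import Groth.Agent.L08.WeilInsep.Points
import Groth.Agent.L08.AbelianGrp
import Groth.Agent.L25.Locus.CentConnAll

/-!
# The kernel of the counit of a purely inseparable Weil restriction: affine, no subtori, smooth and connected
-/

set_option autoImplicit false
set_option backward.isDefEq.respectTransparency.types false
set_option linter.style.haveILetI false
set_option linter.unusedSectionVars false
universe u

open CategoryTheory CategoryTheory.Limits MonoidalCategory CartesianMonoidalCategory MonObj AlgebraicGeometry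
open Groth.L13.WeilRes (specOver specHom specHom_comp specHom_bijective exists_iso_specOver)
open TensorProduct

noncomputable section

namespace Groth.L08.WeilInsep

/-- A group over an algebraically closed field without prime-to-characteristic torsion has no subtorus. -/
theorem hasNoSubtorus_of_torsion {Ω : Type u} [Field Ω] [IsAlgClosed Ω] (U : Over (Spec (CommRingCat.of Ω)))
    [GrpObj U] (h : ∀ (n : ℕ) (t : 𝟙_ (Over (Spec (CommRingCat.of Ω))) ⟶ U), (n : Ω) ≠ 0 → t ^ n = 1 → t = 1) :
    Red.HasNoSubtorus Ω U := by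
  intro T _ j _ _ hT
  haveI := Groth.L08.AbelianGrp.isSeparated U
  have hj : j = 1 := Groth.L25.Locus.hom_ext_torsion hT j 1 fun n t _ hn ht => by
    rw [MonObj.comp_one]
    exact h n _ hn (by rw [← MonObj.pow_comp, ht, MonObj.one_comp])
  have hid : (1 : T ⟶ T) = 𝟙 T := (cancel_mono j).1 (by rw [MonObj.one_comp, Category.id_comp, hj])
  refine ⟨⟨η[T].left, ?_, Over.w η[T]⟩⟩
  rw [show T.hom = (toUnit T).left from rfl, ← Over.comp_left, ← Hom.one_def, hid]
  rfl

theorem homEquiv_symm_one {S S' : Scheme.{u}} (t : S' ⟶ S) {R : Over S} [GrpObj R] {T : Over S'} :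
    ((Over.mapPullbackAdj t).homEquiv T R).symm 1 = 1 := by
  rw [Equiv.symm_apply_eq, homEquiv_one]

variable {k k' : Type u} [Field k] [Field k'] [Algebra k k'] [Module.Finite k k'] [IsPurelyInseparable k k']
  {G' : Over (Spec (CommRingCat.of k'))} [GrpObj G']
  {R : Over (Spec (CommRingCat.of k))} [GrpObj R] {q : Red.bc (fe k k') R ⟶ G'} [IsMonHom q]
  (hR : WeilRes.IsWeilRes (fe k k') G' R q)
  {K : Over (Spec (CommRingCat.of k'))} [GrpObj K] (iK : K ⟶ Red.bc (fe k k') R) [IsMonHom iK]
  (hK : AlgGrp.IsKernel iK q)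

/-- An affine chart around the unit. -/
theorem exists_chart (G' : Over (Spec (CommRingCat.of k'))) [GrpObj G'] :
    ∃ (U : G'.left.Opens) (B : Type u) (_ : CommRing B) (_ : Algebra k' B) (_ : opn U ≅ specOver k' B),
      IsAffineOpen U ∧ Set.range η[G'].left ⊆ (U : Set G'.left) := by
  obtain ⟨U, hU, hx, -⟩ := exists_isAffineOpen_mem_and_subset (X := G'.left) (U := ⊤)
    (x := η[G'].left (default : ↥(Spec (CommRingCat.of k')))) trivial
  haveI : IsAffine (opn U).left := hU
  obtain ⟨B, _, _, ⟨e⟩⟩ := exists_iso_specOver k' (opn U)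
  refine ⟨U, B, inferInstance, inferInstance, e, hU, ?_⟩
  rintro _ ⟨z, rfl⟩
  rw [show z = (default : ↥(Spec (CommRingCat.of k'))) from Subsingleton.elim (α := PrimeSpectrum k') z _]
  exact hx

include hR hK in
theorem isAffine_kernel : IsAffine K.left ∧ (LocallyOfFiniteType G'.hom → LocallyOfFiniteType K.hom) := by
  obtain ⟨U, B, _, _, a, hUa, hU⟩ := exists_chart G'
  obtain ⟨_, _, _, _⟩ := fe_props k k'
  haveI : IsAffine (U : Scheme.{u}) := hUa
  haveI : IsAffineHom (U.ι ≫ G'.hom) := inferInstance
  obtain ⟨h1, h2⟩ := isAffineHom_kernel (fe k k') U hU hR iK hK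
  haveI := h1
  exact ⟨isAffine_of_isAffineHom K.hom, h2⟩

include hR hK in
theorem hasNoSubtorus_kernel {Ω : Type u} [Field Ω] [IsAlgClosed Ω]
    (p : Spec (CommRingCat.of Ω) ⟶ Spec (CommRingCat.of k')) : Red.HasNoSubtorus Ω (Red.bc p K) := by
  obtain ⟨U, B, _, _, a, hUa, hU⟩ := exists_chart G'
  obtain ⟨φ, rfl⟩ := Spec.map_surjective p
  letI : Algebra k' Ω := φ.hom.toAlgebra
  let adj := Over.mapPullbackAdj (Spec.map φ)
  let ω : specOver k' Ω ≅ (Over.map (Spec.map φ)).obj (𝟙_ (Over (Spec (CommRingCat.of Ω)))) :=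
    Over.isoMk (Iso.refl _) (by
      show 𝟙 _ ≫ 𝟙 _ ≫ Spec.map φ = _
      rw [Category.id_comp, Category.id_comp]
      rfl)
  refine hasNoSubtorus_of_torsion _ fun n t hn ht => ?_
  let s := (adj.homEquiv _ K).symm t
  have hs : s ^ n = 1 := (adj.homEquiv _ K).injective (by
    rw [homEquiv_pow, homEquiv_one, Equiv.apply_symm_apply, ht])
  have h := eq_one_of_pow hR iK hK a hU Ω (ω.hom ≫ s) (n := n) (isUnit_iff_ne_zero.2 hn)
    (by rw [← MonObj.comp_pow, hs, MonObj.comp_one])
  have hs1 : s = 1 := (cancel_epi ω.hom).1 (by rw [h, MonObj.comp_one])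
  rw [← (adj.homEquiv _ K).apply_symm_apply t]
  exact (congrArg _ hs1).trans (homEquiv_one _)

include hR hK in
theorem exists_lift_smooth [Smooth G'.hom] {C D : Type u} [CommRing C] [Algebra k' C] [CommRing D] [Algebra k' D]
    (χ : C →ₐ[k'] D) (hχ : Function.Surjective χ) (t₀ : specOver k' D ⟶ K) :
    ∃ t : specOver k' C ⟶ K, specHom χ ≫ t = t₀ := by
  obtain ⟨U, B, _, _, a, hUa, hU⟩ := exists_chart G'
  haveI : Smooth (opn U).hom := inferInstanceAs (Smooth (U.ι ≫ G'.hom))
  haveI := Groth.L13.WeilRes.algebra_smooth a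
  exact exists_lift_point hR iK hK a hU χ hχ t₀

include hR hK in
theorem smooth_connected_kernel [Smooth G'.hom] : Smooth K.hom ∧ ConnectedSpace ↥K.left := by
  obtain ⟨h1, h2⟩ := isAffine_kernel hR iK hK
  haveI := h1
  haveI : LocallyOfFiniteType K.hom := h2 inferInstance
  obtain ⟨O, _, _, ⟨e⟩⟩ := exists_iso_specOver k' K
  haveI : IsIso e.inv.left := inferInstanceAs (IsIso ((Over.forget _).map e.inv))
  haveI : IsIso e.hom.left := inferInstanceAs (IsIso ((Over.forget _).map e.hom))
  haveI hft : Algebra.FiniteType k' O := by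
    have h : LocallyOfFiniteType (e.inv.left ≫ K.hom) := inferInstance
    rw [Over.w e.inv] at h
    exact RingHom.finiteType_algebraMap.1 ((HasRingHomProperty.Spec_iff (P := @LocallyOfFiniteType)).1 h)
  have hlift : ∀ (C D : Type u) [CommRing C] [Algebra k' C] [CommRing D] [Algebra k' D]
      (χ : C →ₐ[k'] D) (_ : Function.Surjective χ) (g : O →ₐ[k'] D), ∃ g' : O →ₐ[k'] C, χ.comp g' = g := by
    intro C D _ _ _ _ χ hχ g
    obtain ⟨t, ht⟩ := exists_lift_smooth hR iK hK χ hχ (specHom g ≫ e.inv)
    obtain ⟨g', hg'⟩ := (specHom_bijective k' C O).2 (t ≫ e.hom)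
    refine ⟨g', (specHom_bijective k' D O).1 ?_⟩
    show specHom (χ.comp g') = specHom g
    rw [← specHom_comp, show specHom g' = t ≫ e.hom from hg', reassoc_of% ht, Iso.inv_hom_id, Category.comp_id]
  haveI : Algebra.FormallySmooth k' O :=
    .of_comp_surjective fun C _ _ I _ g => hlift C (C ⧸ I) (Ideal.Quotient.mkₐ k' I) (Ideal.Quotient.mkₐ_surjective k' I) g
  haveI : Algebra.FinitePresentation k' O := Algebra.FinitePresentation.of_finiteType.1 inferInstance
  refine ⟨?_, ?_⟩
  · haveI : Smooth (specOver k' O).hom :=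
      (HasRingHomProperty.Spec_iff (P := @Smooth)).2 (RingHom.smooth_algebraMap.2 ⟨inferInstance, inferInstance⟩)
    rw [← Over.w e.hom]
    infer_instance
  · obtain ⟨ε, -⟩ := (specHom_bijective k' k' O).2 (toUnit (specOver k' k') ≫ η[K] ≫ e.hom)
    let m₀ : PrimeSpectrum O := ⟨RingHom.ker (ε : O →+* k'), RingHom.ker_isPrime _⟩
    have key : ∀ p : PrimeSpectrum O, p ∈ connectedComponent m₀ := by
      intro p
      let Ω := AlgebraicClosure p.asIdeal.ResidueField
      letI : Algebra k' Ω := ((algebraMap O Ω).comp (algebraMap k' O)).toAlgebra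
      let gp : O →ₐ[k'] Ω := { algebraMap O Ω with commutes' := fun _ => rfl }
      let χ : Polynomial Ω →ₐ[k'] Ω × Ω := ((Polynomial.aeval (0 : Ω)).prod (Polynomial.aeval (1 : Ω))).restrictScalars k'
      have hχ : Function.Surjective χ := fun w =>
        ⟨Polynomial.C w.1 + Polynomial.C (w.2 - w.1) * Polynomial.X, by simp [χ]⟩
      obtain ⟨g, hg⟩ := hlift _ _ χ hχ (((Algebra.ofId k' Ω).comp ε).prod gp)
      let q : PrimeSpectrum O := ⟨RingHom.ker (g : O →+* Polynomial Ω), RingHom.ker_isPrime _⟩
      have hp : q ≤ p := fun z hz => by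
        have h3 : gp z = 0 := by
          rw [show gp z = (χ (g z)).2 from (congrArg Prod.snd (AlgHom.congr_fun hg z)).symm,
            show g z = 0 from hz, map_zero]
          rfl
        have h4 : algebraMap p.asIdeal.ResidueField Ω (algebraMap O p.asIdeal.ResidueField z) = 0 := by
          rw [← IsScalarTower.algebraMap_apply]; exact h3
        rwa [map_eq_zero, Ideal.algebraMap_residueField_eq_zero] at h4
      have hm : q ≤ m₀ := fun z hz => by
        have h3 : algebraMap k' Ω (ε z) = 0 := by
          rw [show algebraMap k' Ω (ε z) = (χ (g z)).1 from (congrArg Prod.fst (AlgHom.congr_fun hg z)).symm,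
            show g z = 0 from hz, map_zero]
          rfl
        exact (algebraMap k' Ω).injective (h3.trans (map_zero _).symm)
      have hq : _root_.IsPreconnected (closure {q} : Set (PrimeSpectrum O)) := isPreconnected_singleton.closure
      exact hq.subset_connectedComponent ((PrimeSpectrum.le_iff_mem_closure q m₀).1 hm)
        ((PrimeSpectrum.le_iff_mem_closure q p).1 hp)
    haveI : Nonempty (PrimeSpectrum O) := ⟨m₀⟩
    haveI : PreconnectedSpace (PrimeSpectrum O) :=
      ⟨by rw [← Set.eq_univ_of_forall key]; exact isPreconnected_connectedComponent⟩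
    haveI : ConnectedSpace ↥(specOver k' O).left := ({ toNonempty := inferInstance } : ConnectedSpace (PrimeSpectrum O))
    exact (inferInstance : Surjective e.inv.left).1.connectedSpace e.inv.left.continuous

end Groth.L08.WeilInsep
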