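import Groth.Agent.L08.WeilInsep.Kernel
import Groth.Agent.L13.WeilRes.Scheme

/-!
# Infinitesimal kernels have no torsion prime to the characteristic
-/

set_option autoImplicit false
set_option backward.isDefEq.respectTransparency.types false
set_option linter.style.haveILetI false
universe u

open CategoryTheory CategoryTheory.Limits MonoidalCategory CartesianMonoidalCategory MonObj AlgebraicGeometry
open Groth.L13.WeilRes (specOver specHom specHom_comp specHom_bijective)

noncomputable section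

namespace Groth.L08.WeilInsep

variable {F : Type u} [Field F] {G' : Over (Spec (CommRingCat.of F))} {U : G'.left.Opens}
  {B : Type u} [CommRing B] [Algebra F B] (a : opn U ≅ specOver F B)

/-- The point of a coordinate map. -/
def pt {R : Type u} [CommRing R] [Algebra F R] (φ : B →ₐ[F] R) : specOver F R ⟶ G' :=
  specHom φ ≫ a.inv ≫ inc U

theorem pt_injective {R : Type u} [CommRing R] [Algebra F R] :
    Function.Injective (pt a : (B →ₐ[F] R) → (specOver F R ⟶ G')) := by
  intro φ ψ h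
  rw [pt, pt, cancel_mono] at h
  exact (specHom_bijective F R B).1 h

theorem comp_pt {R R' : Type u} [CommRing R] [Algebra F R] [CommRing R'] [Algebra F R'] (g : R →ₐ[F] R')
    (φ : B →ₐ[F] R) : specHom g ≫ pt a φ = pt a (g.comp φ) := by
  rw [pt, pt, ← Category.assoc, specHom_comp]

include a in
theorem exists_pt {R : Type u} [CommRing R] [Algebra F R] (x : specOver F R ⟶ G')
    (h : Set.range x.left ⊆ (U : Set G'.left)) : ∃ φ : B →ₐ[F] R, pt a φ = x := by
  obtain ⟨x', hx⟩ := exists_lift_opn U x h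
  obtain ⟨φ, hφ⟩ := (specHom_bijective F R B).2 (x' ≫ a.hom)
  exact ⟨φ, by
    change specHom φ = _ at hφ
    rw [pt, hφ, Category.assoc, Iso.hom_inv_id_assoc, hx]⟩

/-- A surjection with nilpotent kernel is surjective on spectra. -/
theorem surjective_specHom {R R' : Type u} [CommRing R] [Algebra F R] [CommRing R'] [Algebra F R']
    (g : R →ₐ[F] R') (hg : Function.Surjective g) (hn : ∀ r, g r = 0 → IsNilpotent r) :
    Surjective (specHom g).left := by
  have key : ∀ p : PrimeSpectrum R, p ∈ Set.range (PrimeSpectrum.comap g.toRingHom) := fun p => by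
    rw [range_comap_of_surjective _ g.toRingHom hg, PrimeSpectrum.mem_zeroLocus]
    intro r hr
    exact nilradical_le_prime p.asIdeal (mem_nilradical.2 (hn r hr))
  exact ⟨fun p => key p⟩

variable [GrpObj G'] (hU : Set.range η[G'].left ⊆ (U : Set G'.left))

include a hU in
theorem exists_one (R : Type u) [CommRing R] [Algebra F R] : ∃ e : B →ₐ[F] R, pt a e = 1 :=
  exists_pt a 1 (by
    rw [Hom.one_def, Over.comp_left]
    rintro _ ⟨z, rfl⟩
    exact hU ⟨_, rfl⟩)

include a hU in
theorem exists_pt_of_reduction {R R' : Type u} [CommRing R] [Algebra F R] [CommRing R'] [Algebra F R']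
    (g : R →ₐ[F] R') (hg : Function.Surjective g) (hn : ∀ r, g r = 0 → IsNilpotent r)
    (x : specOver F R ⟶ G') (hx : specHom g ≫ x = 1) : ∃ φ : B →ₐ[F] R, pt a φ = x := by
  refine exists_pt a x ?_
  rintro _ ⟨z, rfl⟩
  obtain ⟨w, rfl⟩ := (surjective_specHom g hg hn).1 z
  refine hU ⟨(toUnit (specOver F R')).left w, ?_⟩
  rw [← Scheme.Hom.comp_apply, ← Scheme.Hom.comp_apply, ← Over.comp_left, ← Over.comp_left, hx, Hom.one_def]

variable {R : Type u} [CommRing R] [Algebra F R]

/-- Triples of elements congruent modulo an ideal. -/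
def triples (J : Ideal R) : Subalgebra F (R × R × R) where
  carrier := {w | w.2.1 - w.1 ∈ J ∧ w.2.2 - w.1 ∈ J}
  mul_mem' := by
    rintro ⟨a, b, c⟩ ⟨a', b', c'⟩ ⟨h1, h2⟩ ⟨h1', h2'⟩
    simp only [Prod.mk_mul_mk, Set.mem_ofPred_eq] at *
    constructor
    · rw [show b * b' - a * a' = (b - a) * b' + a * (b' - a') by ring]
      exact J.add_mem (J.mul_mem_right _ h1) (J.mul_mem_left _ h1')
    · rw [show c * c' - a * a' = (c - a) * c' + a * (c' - a') by ring]
      exact J.add_mem (J.mul_mem_right _ h2) (J.mul_mem_left _ h2')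
  add_mem' := by
    rintro ⟨a, b, c⟩ ⟨a', b', c'⟩ ⟨h1, h2⟩ ⟨h1', h2'⟩
    simp only [Prod.mk_add_mk, Set.mem_ofPred_eq] at *
    constructor
    · rw [add_sub_add_comm]; exact J.add_mem h1 h1'
    · rw [add_sub_add_comm]; exact J.add_mem h2 h2'
  algebraMap_mem' r := by simp

include hU in
/-- On the first order kernel the group law is addition. -/
theorem mul_pt (J : Ideal R) (hJ : J * J = ⊥) (e φ ψ : B →ₐ[F] R) (he : pt a e = 1)
    (hφ : ∀ b, φ b - e b ∈ J) (hψ : ∀ b, ψ b - e b ∈ J) :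
    ∃ χ : B →ₐ[F] R, pt a χ = pt a φ * pt a ψ ∧ ∀ b, χ b - e b = (φ b - e b) + (ψ b - e b) := by
  let T := triples (F := F) J
  let p₀ : T →ₐ[F] R := (AlgHom.fst F R (R × R)).comp T.val
  let p₁ : T →ₐ[F] R := (AlgHom.fst F R R).comp ((AlgHom.snd F R (R × R)).comp T.val)
  let p₂ : T →ₐ[F] R := (AlgHom.snd F R R).comp ((AlgHom.snd F R (R × R)).comp T.val)
  have hz : ∀ {u v : R}, u ∈ J → v ∈ J → u * v = 0 := fun hu hv => by
    have := Ideal.mul_mem_mul hu hv
    rwa [hJ, Ideal.mem_bot] at this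
  let σ : T →ₐ[F] R :=
    AlgHom.ofLinearMap (p₁.toLinearMap + p₂.toLinearMap - p₀.toLinearMap)
      (show p₁ 1 + p₂ 1 - p₀ 1 = 1 by simp)
      (fun w w' => by
        show p₁ (w * w') + p₂ (w * w') - p₀ (w * w') = (p₁ w + p₂ w - p₀ w) * (p₁ w' + p₂ w' - p₀ w')
        simp only [map_mul]
        have h1 := hz w.2.1 w'.2.2
        have h2 := hz w.2.2 w'.2.1
        change (p₁ w - p₀ w) * (p₂ w' - p₀ w') = 0 at h1
        change (p₂ w - p₀ w) * (p₁ w' - p₀ w') = 0 at h2
        linear_combination -h1 - h2)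
  have hσ : ∀ w, σ w = p₁ w + p₂ w - p₀ w := fun _ => rfl
  let X : B →ₐ[F] T := (e.prod (φ.prod e)).codRestrict T fun b =>
    ⟨hφ b, by show e b - e b ∈ J; rw [sub_self]; exact J.zero_mem⟩
  let Y : B →ₐ[F] T := (e.prod (e.prod ψ)).codRestrict T fun b =>
    ⟨by show e b - e b ∈ J; rw [sub_self]; exact J.zero_mem, hψ b⟩
  have hred : specHom p₀ ≫ (pt a X * pt a Y) = 1 := by
    rw [MonObj.comp_mul, comp_pt, comp_pt, show p₀.comp X = e from AlgHom.ext fun _ => rfl,
      show p₀.comp Y = e from AlgHom.ext fun _ => rfl, he, _root_.one_mul]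
  obtain ⟨Z, hZ⟩ := exists_pt_of_reduction a hU p₀
    (fun r => ⟨⟨(r, r, r), by simp [T, triples]⟩, rfl⟩)
    (fun w hw => ⟨2, by
      have h1 : p₁ w ∈ J := by simpa [show p₁ w = w.1.2.1 from rfl, show w.1.1 = 0 from hw] using w.2.1
      have h2 : p₂ w ∈ J := by simpa [show p₂ w = w.1.2.2 from rfl, show w.1.1 = 0 from hw] using w.2.2
      rw [pow_two]
      exact Subtype.ext (Prod.ext (show p₀ w * p₀ w = 0 by rw [hw, zero_mul]) (Prod.ext (hz h1 h1) (hz h2 h2)))⟩)
    _ hred
  have hp₁ : p₁.comp Z = φ := pt_injective a (by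
    rw [← comp_pt, hZ, MonObj.comp_mul, comp_pt, comp_pt, show p₁.comp X = φ from AlgHom.ext fun _ => rfl,
      show p₁.comp Y = e from AlgHom.ext fun _ => rfl, he, _root_.mul_one])
  have hp₂ : p₂.comp Z = ψ := pt_injective a (by
    rw [← comp_pt, hZ, MonObj.comp_mul, comp_pt, comp_pt, show p₂.comp X = e from AlgHom.ext fun _ => rfl,
      show p₂.comp Y = ψ from AlgHom.ext fun _ => rfl, he, _root_.one_mul])
  have hp₀ : p₀.comp Z = e := pt_injective a (by rw [← comp_pt, hZ, hred, he])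
  refine ⟨σ.comp Z, ?_, fun b => ?_⟩
  · rw [← comp_pt, hZ, MonObj.comp_mul, comp_pt, comp_pt,
      show σ.comp X = φ from AlgHom.ext fun b => by
        show φ b + e b - e b = φ b
        ring,
      show σ.comp Y = ψ from AlgHom.ext fun b => by
        show e b + ψ b - e b = ψ b
        ring]
  · rw [AlgHom.comp_apply, hσ, ← AlgHom.comp_apply, ← AlgHom.comp_apply, ← AlgHom.comp_apply, hp₀, hp₁, hp₂]
    ring

include hU in
theorem pow_pt (J : Ideal R) (hJ : J * J = ⊥) (e φ : B →ₐ[F] R) (he : pt a e = 1)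
    (hφ : ∀ b, φ b - e b ∈ J) (n : ℕ) :
    ∃ χ : B →ₐ[F] R, pt a χ = pt a φ ^ n ∧ ∀ b, χ b - e b = n • (φ b - e b) := by
  induction n with
  | zero => exact ⟨e, by rw [pow_zero, he], fun b => by simp⟩
  | succ n ih =>
    obtain ⟨χ, h1, h2⟩ := ih
    obtain ⟨ω, h3, h4⟩ := mul_pt a hU J hJ e χ φ he (fun b => h2 b ▸ J.nsmul_mem (hφ b) n) hφ
    exact ⟨ω, by rw [h3, h1, pow_succ], fun b => by rw [h4, h2, succ_nsmul]⟩

include a hU in
/-- A point in an infinitesimal kernel killed by a unit is trivial. -/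
theorem eq_one_of_pow_eq_one {R₀ : Type u} [CommRing R₀] [Algebra F R₀] (g : R →ₐ[F] R₀)
    (hg : Function.Surjective g) (hn : IsNilpotent (RingHom.ker (g : R →+* R₀)))
    (x : specOver F R ⟶ G') (hx : specHom g ≫ x = 1) {n : ℕ} (hn1 : IsUnit (n : R)) (hxn : x ^ n = 1) :
    x = 1 := by
  obtain ⟨m, hm⟩ := hn
  obtain ⟨e, he⟩ := exists_one a hU R
  obtain ⟨φ, hφ⟩ := exists_pt_of_reduction a hU g hg
    (fun r hr => ⟨m, by
      have := Ideal.pow_mem_pow (show r ∈ RingHom.ker (g : R →+* R₀) from hr) m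
      rwa [hm, Ideal.zero_eq_bot, Ideal.mem_bot] at this⟩) x hx
  let N := RingHom.ker (g : R →+* R₀)
  have key : ∀ i, ∀ b, φ b - e b ∈ N ^ (i + 1) := by
    intro i
    induction i with
    | zero =>
      intro b
      rw [zero_add, pow_one, RingHom.mem_ker, map_sub, sub_eq_zero]
      refine AlgHom.congr_fun (pt_injective a (R := R₀) (a₁ := g.comp φ) (a₂ := g.comp e) ?_) b
      rw [← comp_pt, ← comp_pt, hφ, hx, he, MonObj.comp_one]
    | succ i ih =>
      let q := Ideal.Quotient.mkₐ F (N ^ (i + 2))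
      let J := (N ^ (i + 1)).map q
      have hJ : J * J = ⊥ := by
        rw [← Ideal.map_mul, eq_bot_iff, Ideal.map_le_iff_le_comap]
        intro r hr
        rw [← pow_add] at hr
        exact Ideal.Quotient.eq_zero_iff_mem.2 (Ideal.pow_le_pow_right (by omega) hr)
      have he' : pt a (q.comp e) = 1 := by rw [← comp_pt, he, MonObj.comp_one]
      obtain ⟨χ, h1, h2⟩ := pow_pt a hU J hJ (q.comp e) (q.comp φ) he'
        (fun b => by rw [AlgHom.comp_apply, AlgHom.comp_apply, ← map_sub]; exact Ideal.mem_map_of_mem _ (ih b)) n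
      have hχ : χ = q.comp e := pt_injective a (by
        rw [h1, he', ← comp_pt, hφ, ← MonObj.comp_pow, hxn, MonObj.comp_one])
      intro b
      have h3 := h2 b
      rw [hχ, sub_self, AlgHom.comp_apply, AlgHom.comp_apply, ← map_sub, ← map_nsmul, eq_comm] at h3
      have h4 : (n : R) * (φ b - e b) ∈ N ^ (i + 2) := by
        rw [← nsmul_eq_mul]
        exact Ideal.Quotient.eq_zero_iff_mem.1 h3
      exact (Ideal.unit_mul_mem_iff_mem _ hn1).1 h4
  have : φ = e := AlgHom.ext fun b => sub_eq_zero.1 (by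
    have := Ideal.pow_le_pow_right (Nat.le_succ m) (key m b)
    rwa [hm, Ideal.zero_eq_bot, Ideal.mem_bot] at this)
  rw [← hφ, this, he]

end Groth.L08.WeilInsep

namespace Groth.L08.WeilInsep

variable {F : Type u} [Field F] {G' : Over (Spec (CommRingCat.of F))} {U : G'.left.Opens}
  {B : Type u} [CommRing B] [Algebra F B] (a : opn U ≅ specOver F B)
  [GrpObj G'] (hU : Set.range η[G'].left ⊆ (U : Set G'.left)) {R : Type u} [CommRing R] [Algebra F R]

include a hU in
/-- In characteristic `p` a point in an infinitesimal kernel is killed by a power of `p`. -/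
theorem pow_eq_one_of_reduction {R₀ : Type u} [CommRing R₀] [Algebra F R₀] (g : R →ₐ[F] R₀)
    (hg : Function.Surjective g) {m : ℕ} (hm : RingHom.ker (g : R →+* R₀) ^ m = ⊥)
    (x : specOver F R ⟶ G') (hx : specHom g ≫ x = 1) {p : ℕ} (hp : (p : R) = 0) : x ^ (p ^ m) = 1 := by
  obtain ⟨e, he⟩ := exists_one a hU R
  let N := RingHom.ker (g : R →+* R₀)
  have hnil : ∀ r, g r = 0 → IsNilpotent r := fun r hr => ⟨m, by
    have := Ideal.pow_mem_pow (show r ∈ N from hr) m
    rwa [hm, Ideal.mem_bot] at this⟩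
  have key : ∀ i, ∃ φ : B →ₐ[F] R, pt a φ = x ^ (p ^ i) ∧ ∀ b, φ b - e b ∈ N ^ (i + 1) := by
    intro i
    induction i with
    | zero =>
      obtain ⟨φ, hφ⟩ := exists_pt_of_reduction a hU g hg hnil x hx
      refine ⟨φ, by rw [pow_zero, pow_one, hφ], fun b => ?_⟩
      rw [zero_add, pow_one, RingHom.mem_ker, map_sub, sub_eq_zero]
      refine AlgHom.congr_fun (pt_injective a (R := R₀) (a₁ := g.comp φ) (a₂ := g.comp e) ?_) b
      rw [← comp_pt, ← comp_pt, hφ, hx, he, MonObj.comp_one]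
    | succ i ih =>
      obtain ⟨φ, h0, h0'⟩ := ih
      obtain ⟨ψ, hψ⟩ := exists_pt_of_reduction a hU g hg hnil (x ^ (p ^ (i + 1)))
        (by rw [MonObj.comp_pow, hx, one_pow])
      let q := Ideal.Quotient.mkₐ F (N ^ (i + 2))
      let J := (N ^ (i + 1)).map q
      have hJ : J * J = ⊥ := by
        rw [← Ideal.map_mul, eq_bot_iff, Ideal.map_le_iff_le_comap]
        intro r hr
        rw [← pow_add] at hr
        exact Ideal.Quotient.eq_zero_iff_mem.2 (Ideal.pow_le_pow_right (by omega) hr)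
      have he' : pt a (q.comp e) = 1 := by rw [← comp_pt, he, MonObj.comp_one]
      obtain ⟨χ, h1, h2⟩ := pow_pt a hU J hJ (q.comp e) (q.comp φ) he'
        (fun b => by rw [AlgHom.comp_apply, AlgHom.comp_apply, ← map_sub]; exact Ideal.mem_map_of_mem _ (h0' b)) p
      have hχ : χ = q.comp ψ := pt_injective a (by
        rw [h1, ← comp_pt, h0, ← comp_pt, hψ, ← MonObj.comp_pow, ← pow_mul, ← pow_succ])
      refine ⟨ψ, hψ, fun b => Ideal.Quotient.eq_zero_iff_mem.1 ?_⟩
      show q (ψ b - e b) = 0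
      rw [map_sub, ← AlgHom.comp_apply, ← hχ, ← AlgHom.comp_apply, h2, AlgHom.comp_apply, AlgHom.comp_apply,
        ← map_sub, ← map_nsmul, nsmul_eq_mul, hp, zero_mul, map_zero]
  obtain ⟨φ, h0, h1⟩ := key m
  rw [← h0, show φ = e from AlgHom.ext fun b => sub_eq_zero.1 (by
    have := Ideal.pow_le_pow_right (Nat.le_succ m) (h1 b)
    rwa [hm, Ideal.mem_bot] at this), he]

end Groth.L08.WeilInsep
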