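import Groth.Agent.L08.WeilInsep.Props
import Groth.Agent.L08.HomSpace.Quot
import Groth.Agent.S3264
import Groth.Agent.L08.WeilInsep.Coideal

/-!
# The kernel of the counit of a purely inseparable Weil restriction is unipotent
-/

set_option autoImplicit false
set_option backward.isDefEq.respectTransparency.types false
set_option linter.style.haveILetI false
set_option linter.unusedSectionVars false
universe u

open CategoryTheory CategoryTheory.Limits MonoidalCategory CartesianMonoidalCategory MonObj AlgebraicGeometry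
open Groth.L13.WeilRes (specOver specHom bcIso mulMap mulMap_map mulMap_tmul coord coord_map coord_tmul bas rk
  sum_bas_coord delta sub_mulMap_mem)
open TensorProduct WithConv

noncomputable section

namespace Groth.L08.WeilInsep

section Coeff

variable {k k' : Type u} [Field k] [Field k'] [Algebra k k'] [Module.Finite k k']

/-- The base change of the structure map of an algebra. -/
def structT (k k' : Type u) [Field k] [Field k'] [Algebra k k'] (C : Type u) [CommRing C] [Algebra k' C]
    [Algebra k C] [IsScalarTower k k' C] : k' ⊗[k] k' →ₐ[k'] k' ⊗[k] C :=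
  Algebra.TensorProduct.map (AlgHom.id k' k') ((Algebra.ofId k' C).restrictScalars k)

variable {C : Type u} [CommRing C] [Algebra k' C] [Algebra k C] [IsScalarTower k k' C]

theorem ker_mulMap_eq :
    RingHom.ker (mulMap k k' C : k' ⊗[k] C →+* C) =
      (RingHom.ker (mulMap k k' k' : k' ⊗[k] k' →+* k')).map (structT k k' C) := by
  refine le_antisymm (fun z hz => ?_) ?_
  · have hJ : ∀ b : k', delta k k' C b ∈
        (RingHom.ker (mulMap k k' k' : k' ⊗[k] k' →+* k')).map (structT k k' C) := by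
      intro b
      have e : delta k k' C b = structT k k' C (delta k k' k' b) := by
        rw [Groth.L13.WeilRes.delta_apply, Groth.L13.WeilRes.delta_apply, map_sub, structT,
          Algebra.TensorProduct.map_tmul, Algebra.TensorProduct.map_tmul]
        simp
      rw [e]
      refine Ideal.mem_map_of_mem _ ?_
      show mulMap k k' k' (delta k k' k' b) = 0
      rw [Groth.L13.WeilRes.delta_apply, map_sub, mulMap_tmul, mulMap_tmul]
      simp
    have := sub_mulMap_mem k k' _ hJ z
    rwa [show mulMap k k' C z = 0 from hz, TensorProduct.tmul_zero, sub_zero] at this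
  · rw [Ideal.map_le_iff_le_comap]
    intro n hn
    show mulMap k k' C (structT k k' C n) = 0
    rw [structT, ← mulMap_map, show mulMap k k' k' n = 0 from hn, map_zero]

theorem map_mem_ker_pow {D : Type u} [CommRing D] [Algebra k' D] [Algebra k D] [IsScalarTower k k' D]
    (χ : C →ₐ[k'] D) (n : ℕ) {z : k' ⊗[k] C} (hz : z ∈ (RingHom.ker (mulMap k k' C : k' ⊗[k] C →+* C)) ^ n) :
    Algebra.TensorProduct.map (AlgHom.id k' k') (χ.restrictScalars k) z ∈
      (RingHom.ker (mulMap k k' D : k' ⊗[k] D →+* D)) ^ n := by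
  let T := Algebra.TensorProduct.map (AlgHom.id k' k') (χ.restrictScalars k)
  have hle : (RingHom.ker (mulMap k k' C : k' ⊗[k] C →+* C)).map T ≤
      RingHom.ker (mulMap k k' D : k' ⊗[k] D →+* D) := by
    rw [Ideal.map_le_iff_le_comap]
    intro w hw
    show mulMap k k' D (T w) = 0
    rw [← mulMap_map, show mulMap k k' C w = 0 from hw, map_zero]
  exact Ideal.pow_right_mono hle _ ((Ideal.map_pow T _ n).le (Ideal.mem_map_of_mem T hz))

theorem coord_mul_right (j : Fin (rk k k')) (c : C) (z : k' ⊗[k] C) :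
    coord C j ((1 ⊗ₜ c) * z) = c * coord C j z := by
  induction z using TensorProduct.induction_on with
  | zero => simp
  | tmul b d => rw [Algebra.TensorProduct.tmul_mul_tmul, _root_.one_mul, coord_tmul, coord_tmul, mul_smul_comm]
  | add p q hp hq => simp only [mul_add, map_add, hp, hq]

variable (C) in
/-- A right linear functional given by its values on coordinates. -/
def lam (c : Fin (rk k k') → k') : k' ⊗[k] C →+ C :=
  AddMonoidHom.mk' (fun z => ∑ j, algebraMap k' C (c j) * coord C j z)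
    (fun x y => by simp only [map_add, mul_add, Finset.sum_add_distrib])

theorem lam_apply (c : Fin (rk k k') → k') (z : k' ⊗[k] C) :
    lam C c z = ∑ j, algebraMap k' C (c j) * coord C j z := rfl

theorem lam_mul_right (c : Fin (rk k k') → k') (d : C) (z : k' ⊗[k] C) :
    lam C c ((1 ⊗ₜ d) * z) = d * lam C c z := by
  simp only [lam_apply, coord_mul_right, Finset.mul_sum]
  exact Finset.sum_congr rfl fun j _ => by ring

theorem lam_map {D : Type u} [CommRing D] [Algebra k' D] [Algebra k D] [IsScalarTower k k' D] (χ : C →ₐ[k'] D)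
    (c : Fin (rk k k') → k') (z : k' ⊗[k] C) :
    lam D c (Algebra.TensorProduct.map (AlgHom.id k' k') (χ.restrictScalars k) z) = χ (lam C c z) := by
  simp only [lam_apply, map_sum, map_mul, AlgHom.commutes, coord_map]
  rfl

theorem lam_eq_zero (c : Fin (rk k k') → k') (P : Ideal (k' ⊗[k] k')) (hc : ∀ n ∈ P, lam k' c n = 0)
    {z : k' ⊗[k] C} (hz : z ∈ P.map (structT k k' C)) : lam C c z = 0 := by
  let Z : Ideal (k' ⊗[k] C) :=
    { carrier := {x | ∀ w, lam C c (w * x) = 0}
      zero_mem' := fun w => by rw [mul_zero, map_zero]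
      add_mem' := fun ha hb w => by rw [mul_add, map_add, ha w, hb w, add_zero]
      smul_mem' := fun r x hx w => by rw [smul_eq_mul, ← _root_.mul_assoc]; exact hx (w * r) }
  have hle : P.map (structT k k' C) ≤ Z := by
    rw [Ideal.map_le_iff_le_comap]
    intro n hn w
    rw [← sum_bas_coord w, Finset.sum_mul, map_sum]
    refine Finset.sum_eq_zero fun j _ => ?_
    have e : structT k k' C (bas k k' j ⊗ₜ 1) = bas k k' j ⊗ₜ (1 : C) := by
      rw [structT, Algebra.TensorProduct.map_tmul, map_one]; rfl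
    rw [show bas k k' j ⊗ₜ[k] coord C j w = (1 ⊗ₜ coord C j w) * (bas k k' j ⊗ₜ 1) by
      rw [Algebra.TensorProduct.tmul_mul_tmul, _root_.one_mul, _root_.mul_one], _root_.mul_assoc, lam_mul_right,
      ← e, ← map_mul, structT, lam_map, hc _ (P.mul_mem_left _ hn), map_zero, mul_zero]
  simpa using hle hz 1

theorem mem_of_lam_eq_zero (P : Ideal (k' ⊗[k] k')) {d : k' ⊗[k] C}
    (h : ∀ c : Fin (rk k k') → k', (∀ n ∈ P, lam k' c n = 0) → lam C c d = 0) : d ∈ P.map (structT k k' C) := by
  classical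
  let co : k' ⊗[k] k' → (Fin (rk k k') → k') := fun z j => coord k' j z
  let S : Submodule k' (Fin (rk k k') → k') :=
    { carrier := co '' (P : Set (k' ⊗[k] k'))
      zero_mem' := ⟨0, P.zero_mem, funext fun j => map_zero _⟩
      add_mem' := by
        rintro _ _ ⟨a, ha, rfl⟩ ⟨b, hb, rfl⟩
        exact ⟨a + b, P.add_mem ha hb, funext fun j => map_add _ _ _⟩
      smul_mem' := by
        rintro r _ ⟨a, ha, rfl⟩
        exact ⟨(1 ⊗ₜ r) * a, P.mul_mem_left _ ha, funext fun j => coord_mul_right j r a⟩ }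
  obtain ⟨π, hπ⟩ := S.subtype.exists_leftInverse_of_injective (Submodule.ker_subtype S)
  choose n hnP hn using fun j => (π (Pi.single j 1)).2
  have hΛ : ∀ m, ∑ j, algebraMap k' C ((Pi.single j 1 : Fin (rk k k') → k') m - co (n j) m) * coord C j d = 0 := by
    intro m
    refine h (fun j => (Pi.single j 1 : Fin (rk k k') → k') m - co (n j) m) fun x hx => ?_
    have hfix : (π (co x) : Fin (rk k k') → k') = co x :=
      congrArg Subtype.val (LinearMap.congr_fun hπ ⟨co x, x, hx, rfl⟩)
    have hexp : (π (co x) : Fin (rk k k') → k') m = ∑ j, co x j * co (n j) m := by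
      conv_lhs => rw [pi_eq_sum_univ' (co x)]
      rw [map_sum, Submodule.coe_sum, Finset.sum_apply]
      refine Finset.sum_congr rfl fun j _ => ?_
      rw [map_smul, Submodule.coe_smul, Pi.smul_apply, smul_eq_mul, hn j]
    rw [hfix] at hexp
    rw [lam_apply]
    simp only [Algebra.algebraMap_self, RingHom.id_apply, sub_mul, Finset.sum_sub_distrib]
    rw [sub_eq_zero, Finset.sum_eq_single m (fun j _ hj => by simp [Pi.single_eq_of_ne (Ne.symm hj)])
      (fun hm => absurd (Finset.mem_univ m) hm), Pi.single_eq_same, _root_.one_mul]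
    exact hexp.trans (Finset.sum_congr rfl fun j _ => mul_comm _ _)
  have hd : d = ∑ j, (1 ⊗ₜ coord C j d) * structT k k' C (n j) := by
    refine Groth.L13.WeilRes.ext_coord fun m => ?_
    rw [map_sum]
    simp only [coord_mul_right, structT, coord_map, AlgHom.restrictScalars_apply, Algebra.ofId_apply]
    have := hΛ m
    simp only [map_sub, sub_mul, Finset.sum_sub_distrib, sub_eq_zero] at this
    rw [Finset.sum_eq_single m (fun j _ hj => by simp [Pi.single_eq_of_ne (Ne.symm hj)])
      (fun hm => absurd (Finset.mem_univ m) hm), Pi.single_eq_same, map_one, _root_.one_mul] at this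
    exact this.trans (Finset.sum_congr rfl fun j _ => mul_comm _ _)
  rw [hd]
  exact Ideal.sum_mem _ fun j _ => Ideal.mul_mem_left _ _ (Ideal.mem_map_of_mem _ (hnP j))

end Coeff

section Unipotent

open Groth.L08.HomSpace (specOf)

variable {k k' : Type u} [Field k] [Field k'] [Algebra k k'] [Module.Finite k k'] [IsPurelyInseparable k k']
  {G' : Over (Spec (CommRingCat.of k'))} [GrpObj G']
  {R : Over (Spec (CommRingCat.of k))} [GrpObj R] {q : Red.bc (fe k k') R ⟶ G'} [IsMonHom q]
  (hR : WeilRes.IsWeilRes (fe k k') G' R q)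
  {K : Over (Spec (CommRingCat.of k'))} [GrpObj K] (iK : K ⟶ Red.bc (fe k k') R) [IsMonHom iK]
  (hK : AlgGrp.IsKernel iK q)

theorem xOf_mul (C : Type u) [CommRing C] [Algebra k' C] [Algebra k C] [IsScalarTower k k' C]
    (s t : specOver k' C ⟶ K) : xOf (q := q) iK C (s * t) = xOf (q := q) iK C s * xOf (q := q) iK C t := by
  have e2 : ((Over.mapPullbackAdj (fe k k')).homEquiv _ R).symm ((s * t) ≫ iK) =
      ((Over.mapPullbackAdj (fe k k')).homEquiv _ R).symm (s ≫ iK) *
        ((Over.mapPullbackAdj (fe k k')).homEquiv _ R).symm (t ≫ iK) := by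
    apply ((Over.mapPullbackAdj (fe k k')).homEquiv _ R).injective
    rw [homEquiv_mul, Equiv.apply_symm_apply, Equiv.apply_symm_apply, Equiv.apply_symm_apply, MonObj.mul_comp]
  rw [xOf, xOf, xOf, e2, WeilRes.restr_mul, MonObj.comp_mul]

include hK in
/-- The first non-trivial coefficient of a point is additive. -/
theorem lam_additive {U : G'.left.Opens} {B : Type u} [CommRing B] [Algebra k' B] (a : opn U ≅ specOver k' B)
    (hU : Set.range η[G'].left ⊆ (U : Set G'.left))
    {C D : Type u} [CommRing C] [Algebra k' C] [Algebra k C] [IsScalarTower k k' C]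
    [CommRing D] [Algebra k' D] [Algebra k D] [IsScalarTower k k' D]
    (χ₀ χ₁ χ₂ : C →ₐ[k'] D) (y : specOver k' C ⟶ K)
    (hy : specHom χ₀ ≫ y = (specHom χ₁ ≫ y) * (specHom χ₂ ≫ y)) (n : ℕ)
    (Φ e : B →ₐ[k'] k' ⊗[k] C) (hΦ : pt a Φ = xOf (q := q) iK C y) (he : pt a e = 1)
    (hD : ∀ b, Φ b - e b ∈ (RingHom.ker (mulMap k k' C : k' ⊗[k] C →+* C)) ^ n)
    (c : Fin (rk k k') → k')
    (hc : ∀ z ∈ (RingHom.ker (mulMap k k' k' : k' ⊗[k] k' →+* k')) ^ (n + 1), lam k' c z = 0) (b : B) :
    χ₀ (lam C c (Φ b - e b)) = χ₁ (lam C c (Φ b - e b)) + χ₂ (lam C c (Φ b - e b)) := by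
  rcases n with _ | n
  · -- in degree zero every coefficient vanishes on the unit reduction
    have hd : Φ b - e b ∈ ((RingHom.ker (mulMap k k' k' : k' ⊗[k] k' →+* k')) ^ 1).map (structT k k' C) := by
      rw [pow_one, ← ker_mulMap_eq, RingHom.mem_ker, map_sub, sub_eq_zero]
      refine AlgHom.congr_fun (pt_injective a (R := C) (a₁ := (mulMap k k' C).comp Φ) (a₂ := (mulMap k k' C).comp e) ?_) b
      rw [← comp_pt, ← comp_pt, hΦ, he, mul_xOf iK hK, MonObj.comp_one]
    rw [lam_eq_zero c _ hc hd]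
    simp
  let N₂ := RingHom.ker (mulMap k k' D : k' ⊗[k] D →+* D)
  let qq := Ideal.Quotient.mkₐ k' (N₂ ^ (n + 2))
  let J := (N₂ ^ (n + 1)).map qq
  have hJ : J * J = ⊥ := by
    rw [← Ideal.map_mul, eq_bot_iff, Ideal.map_le_iff_le_comap]
    intro r hr
    rw [← pow_add] at hr
    exact Ideal.Quotient.eq_zero_iff_mem.2 (Ideal.pow_le_pow_right (by omega) hr)
  let T := fun χ : C →ₐ[k'] D => Algebra.TensorProduct.map (AlgHom.id k' k') (χ.restrictScalars k)
  obtain ⟨e₂, he₂⟩ := exists_one a hU (k' ⊗[k] D)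
  have hTe : ∀ χ, (T χ).comp e = e₂ := fun χ =>
    pt_injective a ((comp_pt a (T χ) e).symm.trans (by rw [he₂, he, MonObj.comp_one]))
  have hTΦ : ∀ χ, pt a (qq.comp ((T χ).comp Φ)) = specHom qq ≫ xOf (q := q) iK D (specHom χ ≫ y) := fun χ => by
    rw [← comp_pt, ← comp_pt, hΦ, xOf_natural]
  have hmem : ∀ χ b', (qq.comp ((T χ).comp Φ)) b' - (qq.comp e₂) b' ∈ J := fun χ b' => by
    rw [← hTe χ, AlgHom.comp_apply, AlgHom.comp_apply, AlgHom.comp_apply, AlgHom.comp_apply, ← map_sub, ← map_sub]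
    exact Ideal.mem_map_of_mem _ (map_mem_ker_pow χ (n + 1) (hD b'))
  obtain ⟨ω, h1, h2⟩ := mul_pt a hU J hJ (qq.comp e₂) (qq.comp ((T χ₁).comp Φ)) (qq.comp ((T χ₂).comp Φ))
    (by rw [← comp_pt, he₂, MonObj.comp_one]) (hmem χ₁) (hmem χ₂)
  have hω : ω = qq.comp ((T χ₀).comp Φ) := pt_injective a (by
    rw [h1, hTΦ, hTΦ, hTΦ, hy, xOf_mul, MonObj.comp_mul])
  have key : T χ₀ (Φ b - e b) - (T χ₁ (Φ b - e b) + T χ₂ (Φ b - e b)) ∈ N₂ ^ (n + 2) := by
    refine Ideal.Quotient.eq_zero_iff_mem.1 ?_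
    show qq _ = 0
    have h3 := h2 b
    rw [hω] at h3
    simp only [AlgHom.comp_apply] at h3
    simp only [map_sub, map_add]
    rw [← AlgHom.comp_apply (T χ₀) e, ← AlgHom.comp_apply (T χ₁) e, ← AlgHom.comp_apply (T χ₂) e, hTe, hTe, hTe,
      h3, sub_self]
  have h0 := lam_eq_zero c _ hc (z := T χ₀ (Φ b - e b) - (T χ₁ (Φ b - e b) + T χ₂ (Φ b - e b)))
    (by rw [Ideal.map_pow, ← ker_mulMap_eq]; exact key)
  rw [map_sub, map_add, lam_map, lam_map, lam_map, sub_eq_zero] at h0
  exact h0

include hR hK in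
theorem isUnipotent_kernel {A : Type u} [CommRing A] [HopfAlgebra k' A] [Algebra.FiniteType k' A]
    (φ : specOf k' A ⟶ K) [IsMonHom φ] [Mono φ] : HopfRep.IsUnipotent k' A := by
  rw [Groth.Agent.S3264.result]
  intro I _ hI
  obtain ⟨U, B, _, _, a, -, hU⟩ := exists_chart G'
  let C := A ⧸ I
  let C₂ := C ⊗[k'] C
  letI : Algebra k C := ((algebraMap k' C).comp (algebraMap k k')).toAlgebra
  haveI : IsScalarTower k k' C := IsScalarTower.of_algebraMap_eq fun _ => rfl
  let π := Ideal.Quotient.mkₐ k' I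
  let Δ : C →ₐ[k'] C₂ := Bialgebra.comulAlgHom k' C
  let i₁ : C →ₐ[k'] C₂ := Algebra.TensorProduct.includeLeft
  let i₂ : C →ₐ[k'] C₂ := Algebra.TensorProduct.includeRight
  let y : specOver k' C ⟶ K := Spec.mapMulEquiv (toConv π) ≫ φ
  have hcomp : ∀ (χ : C →ₐ[k'] C₂), specHom χ ≫ y = Spec.mapMulEquiv (toConv (χ.comp π)) ≫ φ := fun χ => by
    rw [← Category.assoc]
    congr 1
    ext1
    exact (Spec.map_comp _ _).symm
  have hy : specHom Δ ≫ y = (specHom i₁ ≫ y) * (specHom i₂ ≫ y) := by
    rw [hcomp, hcomp, hcomp]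
    refine Eq.trans ?_ ((congrArg (· ≫ φ) (map_mul Spec.mapMulEquiv (toConv (i₁.comp π)) (toConv (i₂.comp π)))).trans
      (MonObj.mul_comp (Spec.mapMulEquiv (toConv (i₁.comp π))) (Spec.mapMulEquiv (toConv (i₂.comp π))) φ))
    refine congrArg (fun z => Spec.mapMulEquiv z ≫ φ) (WithConv.ext (AlgHom.ext fun z => ?_))
    rw [conv_apply]
    change Bialgebra.comulAlgHom k' C (π z) = Algebra.TensorProduct.lift (i₁.comp π) (i₂.comp π)
      (fun _ _ => Commute.all _ _) (Coalgebra.comul (R := k') z)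
    rw [show Bialgebra.comulAlgHom k' C (π z) = TensorProduct.map π.toLinearMap π.toLinearMap
      (Coalgebra.comul (R := k') z) from rfl]
    induction Coalgebra.comul (R := k') z with
    | zero => simp
    | tmul p r =>
      show π p ⊗ₜ[k'] π r = (π p ⊗ₜ[k'] (1 : C)) * ((1 : C) ⊗ₜ[k'] π r)
      rw [Algebra.TensorProduct.tmul_mul_tmul, _root_.mul_one, _root_.one_mul]
    | add p r hp hr => simp only [map_add, hp, hr]
  obtain ⟨e, he⟩ := exists_one a hU (k' ⊗[k] C)
  let N := RingHom.ker (mulMap k k' C : k' ⊗[k] C →+* C)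
  have hnil : ∀ r, mulMap k k' C r = 0 → IsNilpotent r := fun r hr => by
    obtain ⟨m, hm⟩ := Groth.L13.WeilRes.isNilpotent_ker_mulMap k k' C
    exact ⟨m, by
      have := Ideal.pow_mem_pow (show r ∈ N from hr) m
      rwa [hm, Ideal.zero_eq_bot, Ideal.mem_bot] at this⟩
  obtain ⟨Φ, hΦ⟩ := exists_pt_of_reduction a hU (mulMap k k' C) (Groth.L13.WeilRes.mulMap_surjective k k' C)
    hnil _ (mul_xOf iK hK C y)
  by_cases hall : ∀ i b, Φ b - e b ∈ N ^ (i + 1)
  · exfalso
    obtain ⟨m, hm⟩ := Groth.L13.WeilRes.isNilpotent_ker_mulMap k k' C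
    have hΦe : Φ = e := AlgHom.ext fun b => sub_eq_zero.1 (by
      have := Ideal.pow_le_pow_right (Nat.le_succ m) (hall m b)
      rwa [show N ^ m = ⊥ from hm.trans (Ideal.zero_eq_bot), Ideal.mem_bot] at this)
    have hy1 : y = 1 := xOf_injective hR iK hK C (by rw [xOf_one, ← hΦ, hΦe, he])
    have h1 : Spec.mapMulEquiv (toConv π) = 1 := (cancel_mono φ).1 (by rw [MonObj.one_comp]; exact hy1)
    rw [← map_one (Spec.mapMulEquiv (R := k') (S := A) (T := C))] at h1
    have h2 := Spec.mapMulEquiv.injective h1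
    refine hI (le_antisymm (fun z hz => ?_) (fun z hz => ?_))
    · exact Submodule.IsCoideal.counit_eq_zero (I := I.restrictScalars k') hz
    · have h3 : π z = algebraMap k' C (Coalgebra.counit z) :=
        (DFunLike.congr_fun (congrArg WithConv.ofConv h2) z).trans (AlgHom.convOne_apply z)
      rw [show Coalgebra.counit (R := k') z = 0 from hz, map_zero] at h3
      exact Ideal.Quotient.eq_zero_iff_mem.1 h3
  · push Not at hall
    classical
    have hex : ∃ i, ∃ b, Φ b - e b ∉ N ^ (i + 1) := hall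
    obtain ⟨i, hi⟩ : ∃ i, Nat.find hex = i + 1 := by
      refine Nat.exists_eq_succ_of_ne_zero fun h0 => ?_
      obtain ⟨b, hb⟩ := Nat.find_spec hex
      rw [h0, zero_add, pow_one] at hb
      refine hb (show Φ b - e b ∈ N from ?_)
      rw [RingHom.mem_ker, map_sub, sub_eq_zero]
      refine AlgHom.congr_fun (pt_injective a (R := C) (a₁ := (mulMap k k' C).comp Φ) (a₂ := (mulMap k k' C).comp e) ?_) b
      rw [← comp_pt, ← comp_pt, hΦ, he, mul_xOf iK hK, MonObj.comp_one]
    obtain ⟨b, hb⟩ := Nat.find_spec hex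
    rw [hi] at hb
    have hD : ∀ b', Φ b' - e b' ∈ N ^ (i + 1) := fun b' => by
      by_contra h
      exact Nat.find_min hex (show i < Nat.find hex by omega) ⟨b', h⟩
    let P := (RingHom.ker (mulMap k k' k' : k' ⊗[k] k' →+* k')) ^ (i + 2)
    have hP : ∀ (E : Type u) [CommRing E] [Algebra k' E] [Algebra k E] [IsScalarTower k k' E],
        P.map (structT k k' E) = (RingHom.ker (mulMap k k' E : k' ⊗[k] E →+* E)) ^ (i + 2) := by
      intro E _ _ _ _
      rw [ker_mulMap_eq, Ideal.map_pow]
    obtain ⟨c, hc, hne⟩ : ∃ c : Fin (rk k k') → k', (∀ n ∈ P, lam k' c n = 0) ∧ lam C c (Φ b - e b) ≠ 0 := by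
      by_contra hcon
      push Not at hcon
      exact hb ((hP C) ▸ mem_of_lam_eq_zero P hcon)
    exact ⟨lam C c (Φ b - e b), hne, lam_additive iK hK a hU Δ i₁ i₂ y hy (i + 1) Φ e hΦ he hD c hc b⟩

end Unipotent

end Groth.L08.WeilInsep
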